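import Groth.Agent.GrpdBasic.Basic
import Groth.Agent.FieldDense.Basic

/-!
# Images of homomorphisms of groupoids over a field
-/

set_option autoImplicit false
set_option linter.style.haveILetI false
universe u
open CategoryTheory CategoryTheory.Limits AlgebraicGeometry TopologicalSpace

namespace Groth.Agent.GrpdClosed

open GrpdBasic

variable {S : Scheme.{u}} (G : Grpd.GroupoidScheme S)

theorem mul_left_cancel {T : Scheme.{u}} {α β γ : T ⟶ G.R} (h : α ≫ G.s = β ≫ G.t) (h' : α ≫ G.s = γ ≫ G.t)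
    (e : mul G α β h = mul G α γ h') : β = γ := by
  rw [← mul_inv_cancel_left G α β h, ← mul_inv_cancel_left G α γ h']
  exact mul_congr G rfl e _

/-- `c`, the first projection, `t`, `t` is cartesian. -/
theorem isPullback_c_fst : IsPullback G.c (pullback.fst G.s G.t) G.t G.t := by
  have w : G.c ≫ G.t = pullback.fst G.s G.t ≫ G.t := by rw [c_eq]; exact mul_t G _ _ _
  refine IsPullback.of_isLimit (c := PullbackCone.mk G.c (pullback.fst G.s G.t) w)
    (PullbackCone.IsLimit.mk _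
      (fun q => pullback.lift q.snd (mul G (q.snd ≫ G.i) q.fst (by rw [Category.assoc, G.i_s, q.condition]))
        (by rw [mul_t, Category.assoc, G.i_t]))
      (fun q => ?_) (fun q => pullback.lift_fst _ _ _) fun q m h₁ h₂ => ?_)
  · refine (mul_assoc G q.snd (q.snd ≫ G.i) q.fst (by rw [Category.assoc, G.i_t])
      (by rw [Category.assoc, G.i_s, q.condition])).symm.trans ?_
    refine one_mul G q.fst _ ?_ _
    rw [mul_inv, reassoc_of% q.condition]
  · refine pullback.hom_ext (h₂.trans (pullback.lift_fst _ _ _).symm) ?_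
    rw [pullback.lift_snd]
    have hh : (m ≫ pullback.fst G.s G.t) ≫ G.s = (m ≫ pullback.snd G.s G.t) ≫ G.t := by
      simp [pullback.condition]
    rw [← mul_inv_cancel_left G (m ≫ pullback.fst G.s G.t) (m ≫ pullback.snd G.s G.t) hh]
    refine mul_congr G (by rw [h₂]) ?_ _
    rw [← h₁]
    conv_rhs => rw [c_eq]
    rw [comp_mul]

variable {G} {G₁ : Grpd.GroupoidScheme S} (a : Grpd.GroupoidScheme.Hom G₁ G)

theorem mul_fR {T : Scheme.{u}} (α β : T ⟶ G₁.R) (h : α ≫ G₁.s = β ≫ G₁.t) :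
    mul G₁ α β h ≫ a.fR = mul G (α ≫ a.fR) (β ≫ a.fR)
      (by rw [Category.assoc, Category.assoc, a.comm_s, a.comm_t, reassoc_of% h]) :=
  a.comm_c α β h

theorem e_fR : G₁.e ≫ a.fR = a.fU ≫ G.e := by
  have hs : (G₁.e ≫ a.fR) ≫ G.s = a.fU := by rw [Category.assoc, a.comm_s, reassoc_of% G₁.e_s]
  have ht : (G₁.e ≫ a.fR) ≫ G.t = a.fU := by rw [Category.assoc, a.comm_t, reassoc_of% G₁.e_t]
  have he : mul G₁ G₁.e G₁.e (by rw [G₁.e_s, G₁.e_t]) = G₁.e :=
    mul_one G₁ G₁.e G₁.e (by rw [reassoc_of% G₁.e_s]) _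
  refine mul_right_cancel G (γ := G₁.e ≫ a.fR) (by rw [hs, ht])
    (by rw [Category.assoc, G.e_s, Category.comp_id, ht]) ?_
  refine ((mul_fR a G₁.e G₁.e (by rw [G₁.e_s, G₁.e_t])).symm.trans ?_).trans
    (one_mul G (G₁.e ≫ a.fR) (a.fU ≫ G.e) (by rw [← Category.assoc (G₁.e ≫ a.fR), ht]) _).symm
  rw [he]

theorem i_fR : G₁.i ≫ a.fR = a.fR ≫ G.i := by
  refine mul_right_cancel G (γ := a.fR)
    (by rw [Category.assoc, a.comm_s, reassoc_of% G₁.i_s, a.comm_t]) (by rw [Category.assoc, G.i_s]) ?_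
  have h1 := mul_fR a G₁.i (𝟙 G₁.R) (by rw [G₁.i_s, Category.id_comp])
  have h2 : mul G₁ G₁.i (𝟙 G₁.R) (by rw [G₁.i_s, Category.id_comp]) = G₁.s ≫ G₁.e := by
    have h := inv_mul G₁ (𝟙 G₁.R)
    simp only [Category.id_comp] at h
    exact h
  refine ((mul_congr G rfl (Category.id_comp a.fR).symm _).trans h1.symm).trans ?_
  rw [h2, inv_mul, Category.assoc, e_fR, ← reassoc_of% a.comm_s]

variable (hK : ∀ {X : Scheme.{u}} (f : X ⟶ G.U), UniversallyOpen f) [IsIso a.fU]
include hK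

/-- The closure of the image is closed under composition. -/
theorem c_mem_closure (z : ↑(pullback G.s G.t)) (h₁ : pullback.fst G.s G.t z ∈ closure (Set.range a.fR))
    (h₂ : pullback.snd G.s G.t z ∈ closure (Set.range a.fR)) : G.c z ∈ closure (Set.range a.fR) := by
  have h := FieldDense.mem_closure_range_map G.s G.t a.fR a.fR hK z h₁ h₂
  refine closure_mono ?_ (image_closure_subset_closure_image G.c.continuous ⟨z, h, rfl⟩)
  rintro _ ⟨_, ⟨w, rfl⟩, rfl⟩
  let M := pullback.map (a.fR ≫ G.s) (a.fR ≫ G.t) G.s G.t a.fR a.fR (𝟙 _) (by simp) (by simp)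
  let α := pullback.fst (a.fR ≫ G.s) (a.fR ≫ G.t)
  let β := pullback.snd (a.fR ≫ G.s) (a.fR ≫ G.t)
  have hαβ : α ≫ G₁.s = β ≫ G₁.t := by
    rw [← cancel_mono a.fU, Category.assoc, Category.assoc, ← a.comm_s, ← a.comm_t]
    exact pullback.condition
  have hM : mul G₁ α β hαβ ≫ a.fR = M ≫ G.c := by
    rw [mul_fR, c_eq, comp_mul]
    exact mul_congr G (pullback.lift_fst _ _ _).symm (pullback.lift_snd _ _ _).symm _
  exact ⟨mul G₁ α β hαβ w, congrArg (fun ψ : (_ : Scheme.{u}) ⟶ G.R => ψ w) hM⟩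

omit hK [IsIso a.fU] in
theorem i_mem_closure (g : G.R) (h : g ∈ closure (Set.range a.fR)) : G.i g ∈ closure (Set.range a.fR) := by
  refine closure_mono ?_ (image_closure_subset_closure_image G.i.continuous ⟨g, h, rfl⟩)
  rintro _ ⟨_, ⟨r, rfl⟩, rfl⟩
  exact ⟨G₁.i r, congrArg (fun ψ : G₁.R ⟶ G.R => ψ r) (i_fR a)⟩

/-- If `fst z` and `c z` lie in the closure of the image then so does `snd z`. -/
theorem snd_mem_closure (z : ↑(pullback G.s G.t)) (h₁ : pullback.fst G.s G.t z ∈ closure (Set.range a.fR))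
    (h₂ : G.c z ∈ closure (Set.range a.fR)) : pullback.snd G.s G.t z ∈ closure (Set.range a.fR) := by
  let α := pullback.fst G.s G.t
  let β := pullback.snd G.s G.t
  have hφ : (α ≫ G.i) ≫ G.s = G.c ≫ G.t := by
    rw [Category.assoc, G.i_s, c_eq]; exact (mul_t G _ _ _).symm
  let φ := pullback.lift (α ≫ G.i) G.c hφ
  have key : φ ≫ G.c = β := by
    refine Eq.trans ?_ (mul_inv_cancel_left G α β pullback.condition)
    exact mul_congr G rfl (c_eq G) _
  rw [show pullback.snd G.s G.t z = G.c (φ z) from (congrArg (fun ψ : pullback G.s G.t ⟶ G.R => ψ z) key).symm]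
  refine c_mem_closure a hK (φ z) ?_ ?_
  · rw [← Scheme.Hom.comp_apply, pullback.lift_fst, Scheme.Hom.comp_apply]
    exact i_mem_closure a _ h₁
  · rw [← Scheme.Hom.comp_apply, pullback.lift_snd]
    exact h₂

/-- A locally closed image of a groupoid homomorphism over a field is closed. -/
theorem isClosed_range_of_isLocallyClosed [Subsingleton G.U] (hlc : IsLocallyClosed (Set.range a.fR)) :
    IsClosed (Set.range a.fR) := by
  rcases isEmpty_or_nonempty G₁.R with he | ⟨⟨r₀⟩⟩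
  · rw [Set.range_eq_empty]
    exact isClosed_empty
  obtain ⟨O, Z, hO, hZ, hOZ⟩ := hlc
  let H := Set.range a.fR
  change IsClosed H
  refine isClosed_of_closure_subset fun g hg => ?_
  have hOH : ∀ r ∈ closure H, r ∈ O → r ∈ H := fun r hr hrO => by
    rw [show H = O ∩ Z from hOZ]
    refine ⟨hrO, (closure_minimal ?_ hZ) hr⟩
    rw [show H = O ∩ Z from hOZ]; exact Set.inter_subset_right
  by_contra hgH
  let fg := G.R.fromSpecResidueField g
  let α := pullback.fst G.s G.t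
  let β := pullback.snd G.s G.t
  let ι := pullback.fst α fg
  let qF := pullback.snd α fg
  have hFfst : ∀ w, α (ι w) = g := fun w => by
    rw [← Scheme.Hom.comp_apply, pullback.condition, Scheme.Hom.comp_apply]
    exact Set.mem_singleton_iff.1 (G.R.range_fromSpecResidueField g ▸ Set.mem_range_self _)
  have hsq1 : IsPullback (ι ≫ β) qF G.t (fg ≫ G.s) :=
    (IsPullback.of_hasPullback α fg).paste_horiz (IsPullback.of_hasPullback G.s G.t).flip
  have hsq2 : IsPullback (ι ≫ G.c) qF G.t (fg ≫ G.t) :=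
    (IsPullback.of_hasPullback α fg).paste_horiz (isPullback_c_fst G)
  haveI := hK (fg ≫ G.s)
  haveI := hK (fg ≫ G.t)
  haveI h1o : UniversallyOpen (ι ≫ β) := MorphismProperty.of_isPullback (P := @UniversallyOpen) hsq1.flip inferInstance
  haveI h2o : UniversallyOpen (ι ≫ G.c) := MorphismProperty.of_isPullback (P := @UniversallyOpen) hsq2.flip inferInstance
  let CF : Set ↑(pullback α fg) := (ι ≫ β) ⁻¹' closure H
  have hCF : CF = (ι ≫ G.c) ⁻¹' closure H := by
    ext w
    change (ι ≫ β) w ∈ closure H ↔ (ι ≫ G.c) w ∈ closure H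
    rw [Scheme.Hom.comp_apply, Scheme.Hom.comp_apply]
    exact ⟨fun h => c_mem_closure a hK _ (show α (ι w) ∈ closure H by rwa [hFfst]) h,
      fun h => snd_mem_closure a hK _ (show α (ι w) ∈ closure H by rwa [hFfst]) h⟩
  have dA : CF = closure ((ι ≫ β) ⁻¹' H) :=
    (ι ≫ β).isOpenMap.preimage_closure_eq_closure_preimage (ι ≫ β).continuous H
  have dB : CF = closure ((ι ≫ G.c) ⁻¹' H) :=
    hCF.trans ((ι ≫ G.c).isOpenMap.preimage_closure_eq_closure_preimage (ι ≫ G.c).continuous H)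
  obtain ⟨z, hz₁, hz₂⟩ := Scheme.Pullback.exists_preimage_pullback (f := G.s) (g := G.t) g (a.fR r₀) (Subsingleton.elim _ _)
  obtain ⟨w, hw⟩ : z ∈ Set.range ι := by
    rw [Scheme.Pullback.range_fst]
    exact show α z ∈ Set.range fg by rw [G.R.range_fromSpecResidueField]; exact hz₁
  have hwCF : w ∈ CF := by
    change (ι ≫ β) w ∈ closure H
    rw [Scheme.Hom.comp_apply, hw, hz₂]
    exact subset_closure ⟨r₀, rfl⟩
  rw [dB] at hwCF
  obtain ⟨b, hb⟩ := closure_nonempty_iff.1 ⟨w, hwCF⟩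
  have hbA : b ∈ closure ((ι ≫ β) ⁻¹' H) := by rw [← dA, dB]; exact subset_closure hb
  have hbO : (ι ≫ G.c) b ∈ O := by
    have : (ι ≫ G.c) b ∈ H := hb
    rw [show H = O ∩ Z from hOZ] at this
    exact this.1
  obtain ⟨v, hvO, hvA⟩ := mem_closure_iff.1 hbA _ (hO.preimage (ι ≫ G.c).continuous) hbO
  have hvC : (ι ≫ G.c) v ∈ closure H := by
    have hv' : (ι ≫ β) v ∈ closure H := subset_closure hvA
    have : v ∈ CF := hv'
    rwa [hCF] at this
  have hcH : G.c (ι v) ∈ H := by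
    rw [← Scheme.Hom.comp_apply]; exact hOH _ hvC hvO
  have hbH : β (ι v) ∈ H := by rw [← Scheme.Hom.comp_apply]; exact hvA
  -- the point lifts to `R₁ ×_{s,s} R₁`
  let e2 := (isPullback_c G).isoPullback
  let m := pullback.map G₁.s G₁.s G.s G.s a.fR a.fR a.fU a.comm_s.symm a.comm_s.symm
  have h3 : e2.hom (ι v) ∈ Set.range m := by
    rw [Scheme.Pullback.range_map]
    refine ⟨?_, ?_⟩
    · rw [Set.mem_preimage, ← Scheme.Hom.comp_apply, IsPullback.isoPullback_hom_fst]; exact hcH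
    · rw [Set.mem_preimage, ← Scheme.Hom.comp_apply, IsPullback.isoPullback_hom_snd]; exact hbH
  obtain ⟨x, hx⟩ := h3
  let γ₁ := pullback.fst G₁.s G₁.s
  let γ₂ := pullback.snd G₁.s G₁.s
  let d := mul G₁ γ₁ (γ₂ ≫ G₁.i) (by rw [pullback.condition, Category.assoc, G₁.i_t])
  have hd : d ≫ a.fR = m ≫ e2.inv ≫ α := by
    have hh : (m ≫ e2.inv ≫ α) ≫ G.s = (m ≫ e2.inv ≫ β) ≫ G.t := by simp [α, β, pullback.condition]
    refine Eq.trans ?_ (mul_inv_cancel_right G (m ≫ e2.inv ≫ α) (m ≫ e2.inv ≫ β) hh)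
    rw [mul_fR]
    refine mul_congr G ?_ ?_ _
    · have hc : m ≫ e2.inv ≫ G.c = γ₁ ≫ a.fR := by
        rw [IsPullback.isoPullback_inv_fst]; exact pullback.lift_fst _ _ _
      rw [← hc]
      conv_lhs => rw [c_eq]
      rw [comp_mul, comp_mul]
    · rw [Category.assoc, i_fR, ← Category.assoc]
      congr 1
      rw [IsPullback.isoPullback_inv_snd]
      exact (pullback.lift_snd _ _ _).symm
  refine hgH ⟨d x, ?_⟩
  rw [← Scheme.Hom.comp_apply, hd, Scheme.Hom.comp_apply, Scheme.Hom.comp_apply, hx]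
  rw [← Scheme.Hom.comp_apply e2.hom, Iso.hom_inv_id]
  exact hFfst v

end Groth.Agent.GrpdClosed
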