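import Groth.Agent.GrpdBasic.Basic
import Groth.Agent.GrpSchField.Component
import Mathlib.RingTheory.Ideal.MinimalPrime.Basic

/-!
# Irreducible components of the arrows of a groupoid scheme over a field
-/

set_option autoImplicit false
set_option linter.style.haveILetI false
universe u
open CategoryTheory CategoryTheory.Limits AlgebraicGeometry MonoidalCategory CartesianMonoidalCategory
  TopologicalSpace

namespace Groth.Agent.GrpdClosed

open GrpdBasic GrpSchField

section General

variable {X : Scheme.{u}} (hX : ∀ {x a b : X}, a ⤳ x → b ⤳ x → ∃ c, c ⤳ a ∧ c ⤳ b)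

/-- maximal points -/
def IsMax (η : X) : Prop := ∀ y, y ⤳ η → y = η

theorem exists_isMax (x : X) : ∃ η, η ⤳ x ∧ IsMax η := by
  obtain ⟨c, hc, h⟩ := exists_max_gen x
  exact ⟨c, hc, fun y hy => (hy.antisymm (h y hy)).eq⟩

include hX in
theorem max_specializes_gen {η x y : X} (hη : IsMax η) (h : η ⤳ x) (hy : y ⤳ x) : η ⤳ y := by
  obtain ⟨c, hc, hcy⟩ := hX h hy
  rwa [hη c hc] at hcy

include hX in
theorem max_unique {η η' x : X} (hη : IsMax η) (hη' : IsMax η') (h : η ⤳ x) (h' : η' ⤳ x) : η = η' :=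
  hη' η (max_specializes_gen hX hη h h')

theorem exists_max_of_component {Z : Set X} (hZ : Z ∈ irreducibleComponents X) :
    ∃ η, IsMax η ∧ Z = closure {η} := by
  obtain ⟨z, hz⟩ := QuasiSober.sober hZ.1 (isClosed_of_mem_irreducibleComponents Z hZ)
  refine ⟨z, fun y hy => ?_, hz.def.symm⟩
  have hle : Z ⊆ closure {y} := by
    rw [← hz.def]
    exact closure_minimal (Set.singleton_subset_iff.2 hy.mem_closure) isClosed_closure
  exact (hy.antisymm (hz.specializes (hZ.2 isIrreducible_singleton.closure hle (subset_closure rfl)))).eq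

include hX in
theorem existsUnique_component (x : X) :
    ∃! Z : Set X, Z ∈ irreducibleComponents X ∧ x ∈ Z := by
  refine ⟨irreducibleComponent x,
    ⟨irreducibleComponent_mem_irreducibleComponents x, mem_irreducibleComponent⟩, fun Z hZ => ?_⟩
  obtain ⟨η, hη, rfl⟩ := exists_max_of_component hZ.1
  obtain ⟨η', hη', h⟩ := exists_max_of_component (irreducibleComponent_mem_irreducibleComponents x)
  rw [h, max_unique hX hη hη' (specializes_iff_mem_closure.2 hZ.2)
    (specializes_iff_mem_closure.2 (h ▸ mem_irreducibleComponent))]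

include hX in
theorem minimalPrimes_subsingleton (x : X) : (minimalPrimes (X.presheaf.stalk x)).Subsingleton := by
  let f := X.fromSpecStalk x
  obtain ⟨η, hηx, hη⟩ := exists_isMax x
  obtain ⟨q, hq⟩ : η ∈ Set.range f := by rw [Scheme.range_fromSpecStalk]; exact hηx
  suffices ∀ p ∈ minimalPrimes (X.presheaf.stalk x), p = q.asIdeal from
    fun p hp p' hp' => (this p hp).trans (this p' hp').symm
  intro p hp
  let P : Spec (X.presheaf.stalk x) := ⟨p, hp.1.1⟩
  have h1 : f P ⤳ x := by
    have : f P ∈ Set.range f := ⟨P, rfl⟩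
    rwa [Scheme.range_fromSpecStalk] at this
  have h2 : q ⤳ P := f.isEmbedding.isInducing.specializes_iff.1 (hq ▸ max_specializes_gen hX hη hηx h1)
  have h3 : q.asIdeal ≤ p := (PrimeSpectrum.le_iff_specializes q P).2 h2
  exact le_antisymm (hp.2 ⟨q.isPrime, bot_le⟩ h3) h3

end General

variable {S : Scheme.{u}} (G : Grpd.GroupoidScheme S) {k : Type u} [Field k]
  (eU : G.U ≅ Spec (CommRingCat.of k))

/-- the source, over `k` -/
noncomputable abbrev fs : G.R ⟶ Spec (CommRingCat.of k) := G.s ≫ eU.hom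

/-- the target, over `k` -/
noncomputable abbrev ft : G.R ⟶ Spec (CommRingCat.of k) := G.t ≫ eU.hom

theorem left_comp {T : Scheme.{u}} {a b c : Over T} {f : a ⟶ b} {g : b ⟶ c} {h : a ⟶ c} (e : f ≫ g = h) :
    f.left ≫ g.left = h.left := by
  subst e; rfl

include eU in
/-- The generizations of any arrow have a common one. -/
theorem exists_common_gen {x a b : G.R} (ha : a ⤳ x) (hb : b ⤳ x) : ∃ c : G.R, c ⤳ a ∧ c ⤳ b := by
  let Ω := AlgebraicClosure (G.R.residueField x)
  let g : Spec (CommRingCat.of Ω) ⟶ G.R :=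
    Spec.map (CommRingCat.ofHom (algebraMap (G.R.residueField x) Ω)) ≫ G.R.fromSpecResidueField x
  have hgx : g (IsLocalRing.closedPoint Ω) = x := G.R.fromSpecResidueField_apply x _
  let A : Over (Spec (CommRingCat.of Ω)) := Over.mk (pullback.snd (fs G eU) (g ≫ fs G eU))
  let B : Over (Spec (CommRingCat.of Ω)) := Over.mk (pullback.snd (ft G eU) (g ≫ ft G eU))
  let pA : A.left ⟶ G.R := pullback.fst (fs G eU) (g ≫ fs G eU)
  let pB : B.left ⟶ G.R := pullback.fst (ft G eU) (g ≫ ft G eU)
  have cA : pA ≫ G.s = A.hom ≫ g ≫ G.s := by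
    rw [← cancel_mono eU.hom]; simp only [Category.assoc]; exact pullback.condition
  have cB : pB ≫ G.t = B.hom ≫ g ≫ G.t := by
    rw [← cancel_mono eU.hom]; simp only [Category.assoc]; exact pullback.condition
  let sA : Over.mk (𝟙 (Spec (CommRingCat.of Ω))) ⟶ A :=
    Over.homMk (pullback.lift g (𝟙 _) (Category.id_comp _).symm) (pullback.lift_snd _ _ _)
  let sB : Over.mk (𝟙 (Spec (CommRingCat.of Ω))) ⟶ B :=
    Over.homMk (pullback.lift g (𝟙 _) (Category.id_comp _).symm) (pullback.lift_snd _ _ _)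
  let α := (fst A B).left ≫ pA
  let β := (snd A B).left ≫ pB
  let γ := (A ⊗ B).hom ≫ g
  have hα : α ≫ G.s = γ ≫ G.s := by
    rw [Category.assoc, cA, ← Category.assoc, Over.w (fst A B)]; simp only [γ, Category.assoc]
  have hβ : γ ≫ G.t = β ≫ G.t := by
    simp only [β, Category.assoc, cB]
    rw [← Category.assoc (snd A B).left, Over.w (snd A B)]
    simp only [γ, Category.assoc]
  let q : (A ⊗ B).left ⟶ G.R :=
    mul G (mul G α (γ ≫ G.i) (hα.trans ((congrArg (γ ≫ ·) G.i_t).symm.trans (Category.assoc _ _ _).symm))) β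
      ((mul_s G _ _ _).trans (by rw [Category.assoc, G.i_s, hβ]))
  let sec₁ : A ⟶ A ⊗ B := lift (𝟙 A) (toUnit A ≫ sB)
  let sec₂ : B ⟶ A ⊗ B := lift (toUnit B ≫ sA) (𝟙 B)
  have hγ₁ : sec₁.left ≫ γ = A.hom ≫ g := by
    rw [← Category.assoc, Over.w sec₁]
  have hγ₂ : sec₂.left ≫ γ = B.hom ≫ g := by
    rw [← Category.assoc, Over.w sec₂]
  have hα₁ : sec₁.left ≫ α = pA :=
    (Category.assoc _ _ _).symm.trans ((congrArg (· ≫ pA) (left_comp (lift_fst (𝟙 A) (toUnit A ≫ sB)))).trans (Category.id_comp _))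
  have hβ₁ : sec₁.left ≫ β = A.hom ≫ g :=
    (Category.assoc _ _ _).symm.trans ((congrArg (· ≫ pB) (left_comp (lift_snd (𝟙 A) (toUnit A ≫ sB)))).trans
        ((Category.assoc _ _ _).trans (congrArg (A.hom ≫ ·) (pullback.lift_fst _ _ _))))
  have hα₂ : sec₂.left ≫ α = B.hom ≫ g :=
    (Category.assoc _ _ _).symm.trans ((congrArg (· ≫ pA) (left_comp (lift_fst (toUnit B ≫ sA) (𝟙 B)))).trans
        ((Category.assoc _ _ _).trans (congrArg (B.hom ≫ ·) (pullback.lift_fst _ _ _))))
  have hβ₂ : sec₂.left ≫ β = pB :=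
    (Category.assoc _ _ _).symm.trans ((congrArg (· ≫ pB) (left_comp (lift_snd (toUnit B ≫ sA) (𝟙 B)))).trans (Category.id_comp _))
  have h1 : sec₁.left ≫ q = pA := by
    simp only [q, comp_mul]
    refine (mul_congr G (mul_congr G hα₁ ((Category.assoc _ _ _).symm.trans (congrArg (· ≫ G.i) hγ₁)) _) hβ₁ _).trans ?_
    exact inv_mul_cancel_right G pA (A.hom ≫ g) (cA.trans (Category.assoc _ _ _).symm)
  have h2 : sec₂.left ≫ q = pB := by
    simp only [q, comp_mul]
    refine (mul_congr G (mul_congr G hα₂ ((Category.assoc _ _ _).symm.trans (congrArg (· ≫ G.i) hγ₂)) _) hβ₂ _).trans ?_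
    refine GrpdBasic.one_mul G pB _ ?_ _
    rw [GrpdBasic.mul_inv, reassoc_of% cB, Category.assoc]
  have hxA : pA (sA.left (IsLocalRing.closedPoint Ω)) = x := by
    have e : sA.left ≫ pA = g := pullback.lift_fst _ _ _
    refine Eq.trans ?_ hgx
    rw [← e]; rfl
  have hxB : pB (sB.left (IsLocalRing.closedPoint Ω)) = x := by
    have e : sB.left ≫ pB = g := pullback.lift_fst _ _ _
    refine Eq.trans ?_ hgx
    rw [← e]; rfl
  rw [← hxA] at ha
  rw [← hxB] at hb
  obtain ⟨a', ha', rfl⟩ := Flat.generalizingMap pA ha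
  obtain ⟨b', hb', rfl⟩ := Flat.generalizingMap pB hb
  obtain ⟨c, hc⟩ := QuasiSober.sober
    ((isIrreducible_rect (X := A) (Y := B) a' b').image q q.continuous.continuousOn).closure isClosed_closure
  refine ⟨c, hc.specializes ?_, hc.specializes ?_⟩
  · refine image_closure_subset_closure_image q.continuous ⟨sec₁.left a', ?_, ?_⟩
    · refine closure_mono (Set.inter_subset_inter (Set.preimage_mono ?_) le_rfl)
        (mem_closure_fibre' (X := A) (Y := B) (sec₁.left a') {b'} ?_)
      · exact Set.singleton_subset_singleton.2 (lift_fst_apply (𝟙 A) (toUnit A ≫ sB) a')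
      · rw [show (snd A B).left (sec₁.left a') = _ from lift_snd_apply (𝟙 A) (toUnit A ≫ sB) a',
          comp_left_apply]
        rw [Subsingleton.elim (α := Spec (CommRingCat.of Ω)) ((toUnit A).left a') (IsLocalRing.closedPoint Ω)]
        exact hb'.mem_closure
    · rw [← Scheme.Hom.comp_apply, h1]
  · refine image_closure_subset_closure_image q.continuous ⟨sec₂.left b', ?_, ?_⟩
    · refine closure_mono (Set.inter_subset_inter le_rfl (Set.preimage_mono ?_))
        (mem_closure_fibre (X := A) (Y := B) (sec₂.left b') {a'} ?_)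
      · exact Set.singleton_subset_singleton.2 (lift_snd_apply (toUnit B ≫ sA) (𝟙 B) b')
      · rw [show (fst A B).left (sec₂.left b') = _ from lift_fst_apply (toUnit B ≫ sA) (𝟙 B) b',
          comp_left_apply]
        rw [Subsingleton.elim (α := Spec (CommRingCat.of Ω)) ((toUnit B).left b') (IsLocalRing.closedPoint Ω)]
        exact ha'.mem_closure
    · rw [← Scheme.Hom.comp_apply, h2]

/-- The identity point. -/
noncomputable abbrev ek : Spec (CommRingCat.of k) ⟶ G.R := eU.inv ≫ G.e

end Groth.Agent.GrpdClosed
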