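import Groth.Agent.GrpdClosed.CommonGen

/-!
# Geometric irreducibility of the identity component of a groupoid scheme over a field
-/

set_option autoImplicit false
set_option linter.style.haveILetI false
universe u
open CategoryTheory CategoryTheory.Limits AlgebraicGeometry TopologicalSpace
open scoped TensorProduct

namespace Groth.Agent.GrpdClosed

open GrpdBasic FieldExtConn

section General

variable {k : Type u} [Field k]

theorem geometricallyIrreducible_extMap {L K : Type u} [Field L] [Field K] [Algebra k L] [Algebra k K]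
    [IsAlgClosed L] (φ : L →ₐ[k] K) : GeometricallyIrreducible (extMap φ) := by
  refine ⟨geometrically_iff_of_isClosedUnderIsomorphisms.mpr fun E _ x => ?_⟩
  obtain ⟨ψ, rfl⟩ := Spec.map_surjective x
  let := φ.toRingHom.toAlgebra
  let := ψ.hom.toAlgebra
  have := isDomain_tensor_of_isAlgClosed L K E
  have : IrreducibleSpace ↥(Spec (CommRingCat.of (K ⊗[L] E))) :=
    (inferInstance : IrreducibleSpace (PrimeSpectrum (K ⊗[L] E)))
  exact (pullbackSpecIso L K E).hom.homeomorph.irreducibleSpace_iff.mpr inferInstance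

variable {X : Scheme.{u}} (f : X ⟶ Spec (CommRingCat.of k)) (e : Spec (CommRingCat.of k) ⟶ X)
  (he : e ≫ f = 𝟙 _) (F : Type u) [Field F] [Algebra k F]

/-- The rational point after base change. -/
noncomputable def eExt : Spec (CommRingCat.of F) ⟶ pullback f (ext k F) :=
  pullback.lift (ext k F ≫ e) (𝟙 _) (by rw [Category.assoc, he, Category.comp_id, Category.id_comp])

theorem eExt_fst (z : Spec (CommRingCat.of F)) :
    pullback.fst f (ext k F) (eExt f e he F z) = e (IsLocalRing.closedPoint k) := by
  rw [← Scheme.Hom.comp_apply, eExt, pullback.lift_fst, Scheme.Hom.comp_apply]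
  exact congrArg e (Subsingleton.elim (α := PrimeSpectrum k) _ _)

include he in
theorem eExt_unique (p : (pullback f (ext k F) : Scheme.{u}))
    (hp : pullback.fst f (ext k F) p = e (IsLocalRing.closedPoint k)) (z : Spec (CommRingCat.of F)) :
    p = eExt f e he F z := by
  let m := pullback.map (e ≫ f) (ext k F) f (ext k F) e (𝟙 _) (𝟙 _) (by simp) (by simp)
  haveI : IsIso (e ≫ f) := by rw [he]; infer_instance
  haveI : Subsingleton (Spec (CommRingCat.of F)) := inferInstanceAs (Subsingleton (PrimeSpectrum F))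
  haveI : Subsingleton ↥(pullback (e ≫ f) (ext k F)) :=
    (pullback.snd (e ≫ f) (ext k F)).homeomorph.injective.subsingleton
  have hmem : ∀ q, pullback.fst f (ext k F) q = e (IsLocalRing.closedPoint k) → q ∈ Set.range m := by
    intro q hq
    rw [Scheme.Pullback.range_map]
    exact ⟨⟨_, hq.symm⟩, _, rfl⟩
  obtain ⟨y, rfl⟩ := hmem p hp
  obtain ⟨y', hy'⟩ := hmem _ (eExt_fst f e he F z)
  rw [← hy', Subsingleton.elim y y']

variable {η : X} (hη : IsMax η) (hηe : η ⤳ e (IsLocalRing.closedPoint k))
  (hstab : ∀ {y z : X}, η ⤳ z → y ⤳ z → η ⤳ y)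

include he hη hηe hstab in
theorem exists_gen_closure (w : (pullback f (ext k (AlgebraicClosure k)) : Scheme.{u}))
    (hw : η ⤳ pullback.fst f (ext k (AlgebraicClosure k)) w) (z : Spec (CommRingCat.of (AlgebraicClosure k))) :
    ∃ c, c ⤳ w ∧ c ⤳ eExt f e he (AlgebraicClosure k) z ∧
      pullback.fst f (ext k (AlgebraicClosure k)) c = η ∧ IsMax c := by
  let p := pullback.fst f (ext k (AlgebraicClosure k))
  obtain ⟨c, hc, hmax⟩ := exists_isMax w
  obtain ⟨c', hc', hc'η⟩ := Flat.generalizingMap p (hstab hw (hc.map p.continuous) : η ⤳ p c)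
  have hcη : p c = η := by rw [← hmax c' hc']; exact hc'η
  have : IsIntegralHom p := by
    have h : IsIntegralHom (ext k (AlgebraicClosure k)) := by
      rw [IsIntegralHom.SpecMap_iff]
      exact fun x => Algebra.IsIntegral.isIntegral x
    exact MorphismProperty.of_isPullback (P := @IsIntegralHom)
      (IsPullback.of_hasPullback f (ext k (AlgebraicClosure k))).flip h
  obtain ⟨q, hq, hqe⟩ := (p.isClosedMap _ (isClosed_closure (s := {c}))).closure_subset_iff.2
    (Set.singleton_subset_iff.2 (⟨c, subset_closure rfl, hcη⟩ : η ∈ p '' closure {c}))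
    hηe.mem_closure
  exact ⟨c, hc, (eExt_unique f e he (AlgebraicClosure k) q hqe z) ▸ specializes_iff_mem_closure.2 hq, hcη, hmax⟩

include he hη hηe hstab in
theorem exists_gen_ext (w : (pullback f (ext k F) : Scheme.{u}))
    (hw : η ⤳ pullback.fst f (ext k F) w) (z : Spec (CommRingCat.of F)) :
    ∃ c, c ⤳ w ∧ c ⤳ eExt f e he F z := by
  let Ω := AlgebraicClosure F
  let ι : F →ₐ[k] Ω := IsScalarTower.toAlgHom k F Ω
  let φ : AlgebraicClosure k →ₐ[k] Ω := IsAlgClosed.lift
  have := geometricallyIrreducible_extMap φ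
  have : GeometricallyIrreducible (baseMap f φ) := baseMap_prop f @GeometricallyIrreducible φ this
  obtain ⟨w', rfl⟩ := (baseMap f ι).surjective w
  obtain ⟨c, hc, hce, -, -⟩ := exists_gen_closure f e he hη hηe hstab (baseMap f φ w')
    (by rw [fst_baseMap]; rwa [fst_baseMap] at hw) (IsLocalRing.closedPoint _)
  have hP := (baseMap f φ).isIrreducible_preimage (baseMap f φ).isOpenMap
    (isIrreducible_singleton (x := c)).closure
  obtain ⟨d, hd⟩ := QuasiSober.sober hP.closure isClosed_closure
  refine ⟨baseMap f ι d, (hd.specializes (subset_closure hc.mem_closure)).map (baseMap f ι).continuous, ?_⟩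
  let eΩ := eExt f e he Ω (IsLocalRing.closedPoint Ω)
  have h1 : baseMap f φ eΩ = eExt f e he (AlgebraicClosure k) (IsLocalRing.closedPoint (AlgebraicClosure k)) :=
    eExt_unique f e he (AlgebraicClosure k) _ (by rw [fst_baseMap, eExt_fst]) _
  have h2 : baseMap f ι eΩ = eExt f e he F z := eExt_unique f e he _ _ (by rw [fst_baseMap, eExt_fst]) _
  rw [← h2]
  refine (hd.specializes (subset_closure ?_)).map (baseMap f ι).continuous
  rw [Set.mem_preimage, h1]
  exact hce.mem_closure

include he hη hηe hstab in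
theorem isIrreducible_preimage_closure
    (hone : ∀ a b : (pullback f (ext k (AlgebraicClosure k)) : Scheme.{u}), IsMax a → IsMax b →
      pullback.fst f (ext k (AlgebraicClosure k)) a = η → pullback.fst f (ext k (AlgebraicClosure k)) b = η → a = b) :
    IsIrreducible (pullback.fst f (ext k F) ⁻¹' closure {η}) := by
  obtain ⟨a, -, -, ha, hamax⟩ := exists_gen_closure f e he hη hηe hstab
    (eExt f e he (AlgebraicClosure k) (IsLocalRing.closedPoint _)) (by rw [eExt_fst]; exact hηe)
    (IsLocalRing.closedPoint _)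
  have hκ : pullback.fst f (ext k (AlgebraicClosure k)) ⁻¹' closure {η} = closure {a} := by
    refine subset_antisymm (fun w hw => ?_) (closure_minimal ?_ (isClosed_closure.preimage (Scheme.Hom.continuous _)))
    · obtain ⟨c, hc, -, hcη, hmax⟩ := exists_gen_closure f e he hη hηe hstab w
        (specializes_iff_mem_closure.2 hw) (IsLocalRing.closedPoint _)
      rw [hone a c hamax hmax ha hcη]
      exact hc.mem_closure
    · rw [Set.singleton_subset_iff, Set.mem_preimage, ha]
      exact subset_closure rfl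
  let Ω := AlgebraicClosure F
  let ι : F →ₐ[k] Ω := IsScalarTower.toAlgHom k F Ω
  let φ : AlgebraicClosure k →ₐ[k] Ω := IsAlgClosed.lift
  have := geometricallyIrreducible_extMap φ
  have : GeometricallyIrreducible (baseMap f φ) := baseMap_prop f @GeometricallyIrreducible φ this
  have hirr := (baseMap f φ).isIrreducible_preimage (baseMap f φ).isOpenMap
    (hκ ▸ isIrreducible_singleton.closure :
      IsIrreducible (pullback.fst f (ext k (AlgebraicClosure k)) ⁻¹' closure {η}))
  have := hirr.image (baseMap f ι) (baseMap f ι).continuous.continuousOn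
  have e1 : baseMap f φ ⁻¹' (pullback.fst f (ext k (AlgebraicClosure k)) ⁻¹' closure {η}) =
      baseMap f ι ⁻¹' (pullback.fst f (ext k F) ⁻¹' closure {η}) := by
    ext w
    simp only [Set.mem_preimage, fst_baseMap]
  rw [e1, Set.image_preimage_eq _ (baseMap f ι).surjective] at this
  exact this

end General

variable {S : Scheme.{u}} (G : Grpd.GroupoidScheme S) {k : Type u} [Field k]
  (eU : G.U ≅ Spec (CommRingCat.of k))

theorem ek_fs : ek G eU ≫ fs G eU = 𝟙 _ := by simp [ek, fs, reassoc_of% G.e_s]

theorem ek_ft : ek G eU ≫ ft G eU = 𝟙 _ := by simp [ek, ft, reassoc_of% G.e_t]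

theorem e_i : G.e ≫ G.i = G.e := by
  have h1 := GrpdBasic.mul_inv G G.e
  rw [GrpdBasic.one_mul G (G.e ≫ G.i) G.e (by rw [Category.assoc, reassoc_of% G.i_t, reassoc_of% G.e_s])] at h1
  exact h1.trans ((reassoc_of% G.e_t) _)

theorem hone_groupoid {η : G.R} (hη : IsMax η) (hηe : η ⤳ ek G eU (IsLocalRing.closedPoint k))
    (a b : (pullback (fs G eU) (ext k (AlgebraicClosure k)) : Scheme.{u})) (ha : IsMax a) (hb : IsMax b)
    (haη : pullback.fst (fs G eU) (ext k (AlgebraicClosure k)) a = η)
    (hbη : pullback.fst (fs G eU) (ext k (AlgebraicClosure k)) b = η) : a = b := by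
  have hstab : ∀ {y z : G.R}, η ⤳ z → y ⤳ z → η ⤳ y := fun h h' =>
    max_specializes_gen (exists_common_gen G eU) hη h h'
  let κ := AlgebraicClosure k
  let pA := pullback.fst (fs G eU) (ext k κ)
  let sA := pullback.snd (fs G eU) (ext k κ)
  let e' := eExt (fs G eU) (ek G eU) (ek_fs G eU) κ
  have hpe : e' ≫ pA = ext k κ ≫ ek G eU := pullback.lift_fst _ _ _
  have hse : e' ≫ sA = 𝟙 _ := pullback.lift_snd _ _ _
  have hcA : pA ≫ fs G eU = sA ≫ ext k κ := pullback.condition
  obtain ⟨c, hc, hce, hcη, hcmax⟩ := exists_gen_closure _ _ (ek_fs G eU) hη hηe hstab b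
    (by rw [hbη]) (sA a)
  have hbe : b ⤳ e' (sA a) := (hb c hc) ▸ hce
  let τ := pA ≫ ft G eU
  let P1 := pullback.fst (fs G eU) τ
  let P2 := pullback.snd (fs G eU) τ
  have hcomp : P1 ≫ G.s = (P2 ≫ pA) ≫ G.t := by
    rw [← cancel_mono eU.hom, Category.assoc, Category.assoc, Category.assoc]
    exact pullback.condition
  let q : pullback (fs G eU) τ ⟶ pullback (fs G eU) (ext k κ) :=
    pullback.lift (mul G P1 (P2 ≫ pA) hcomp) (P2 ≫ sA) (by
      rw [Category.assoc, ← hcA, ← Category.assoc, mul_s, Category.assoc, Category.assoc])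
  let ρ : pullback (fs G eU) (ext k κ) ⟶ pullback (fs G eU) τ :=
    pullback.lift pA (sA ≫ e') (by
      show pA ≫ fs G eU = (sA ≫ e') ≫ pA ≫ ft G eU
      rw [Category.assoc, ← Category.assoc e', hpe, Category.assoc, ek_ft, Category.comp_id, hcA])
  let σ : pullback (fs G eU) (ext k κ) ⟶ pullback (fs G eU) τ :=
    pullback.lift (τ ≫ ek G eU) (𝟙 _) (by rw [Category.assoc, ek_fs, Category.comp_id, Category.id_comp])
  have hρ : ρ ≫ q = 𝟙 _ := by
    refine pullback.hom_ext ?_ ?_
    · simp only [q, ρ, Category.assoc, pullback.lift_fst, Category.id_comp, comp_mul]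
      refine (mul_congr G (pullback.lift_fst _ _ _) rfl _).trans (GrpdBasic.mul_one G pA _ ?_ _)
      simp only [P2, pullback.lift_snd_assoc, Category.assoc, hpe]
      rw [← reassoc_of% hcA]
      simp [ek]
    · simp only [q, ρ, P2, Category.assoc, pullback.lift_snd, pullback.lift_snd_assoc, hse,
        Category.id_comp, Category.comp_id]
      rfl
  have hσ : σ ≫ q = 𝟙 _ := by
    refine pullback.hom_ext ?_ ?_
    · simp only [q, σ, Category.assoc, pullback.lift_fst, Category.id_comp, comp_mul]
      refine (mul_congr G (pullback.lift_fst _ _ _) (pullback.lift_snd_assoc _ _ _ _) _).trans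
        (GrpdBasic.one_mul G pA _ ?_ _ ) |>.trans ?_
      · simp [τ, ek, ft]
      · rfl
    · simp only [q, σ, P2, Category.assoc, pullback.lift_snd, pullback.lift_snd_assoc, Category.id_comp]
      rfl
  have hρb : b ⤳ P2 (ρ a) := by
    rwa [← Scheme.Hom.comp_apply, pullback.lift_snd, Scheme.Hom.comp_apply]
  obtain ⟨w, hwρ, hw⟩ := Flat.generalizingMap P2 hρb
  have hwη : P1 w = η := by
    have := hwρ.map P1.continuous
    rw [← Scheme.Hom.comp_apply, pullback.lift_fst, haη] at this
    exact hη _ this
  let F := (pullback (fs G eU) (ext k κ)).residueField b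
  let u : Spec (CommRingCat.of F) ⟶ pullback (fs G eU) (ext k κ) :=
    (pullback (fs G eU) (ext k κ)).fromSpecResidueField b
  obtain ⟨ψ, hψ⟩ := Spec.map_surjective (u ≫ τ)
  let := ψ.hom.toAlgebra
  have hext : ext k F = u ≫ τ := hψ
  let m := pullback.map (fs G eU) (ext k F) (fs G eU) τ (𝟙 _) u (𝟙 _) (by simp) (by simp [hext])
  obtain ⟨w', rfl⟩ : w ∈ Set.range m := by
    rw [Scheme.Pullback.range_map]
    refine ⟨⟨P1 w, rfl⟩, IsLocalRing.closedPoint F, ?_⟩
    exact ((pullback (fs G eU) (ext k κ)).fromSpecResidueField_apply b _).trans hw.symm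
  have hw' : η ⤳ pullback.fst (fs G eU) (ext k F) w' := by
    have : P1 (m w') = pullback.fst (fs G eU) (ext k F) w' := by
      rw [← Scheme.Hom.comp_apply, pullback.lift_fst, Category.comp_id]
    rw [← this, hwη]
  obtain ⟨d, hd, hde⟩ := exists_gen_ext _ _ (ek_fs G eU) F hη hηe hstab w' hw' (IsLocalRing.closedPoint F)
  have hm : eExt (fs G eU) (ek G eU) (ek_fs G eU) F ≫ m = u ≫ σ := by
    refine pullback.hom_ext ?_ ?_
    · simp only [eExt, m, σ, Category.assoc, pullback.lift_fst, pullback.lift_fst_assoc, Category.comp_id]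
      rw [hext, Category.assoc]
    · simp only [eExt, m, σ, Category.assoc, pullback.lift_snd, pullback.lift_snd_assoc, Category.id_comp,
        Category.comp_id]
  have h1 : q (m d) ⤳ a := by
    have := ((hd.map m.continuous).trans hwρ).map q.continuous
    rwa [← Scheme.Hom.comp_apply ρ q, hρ] at this
  have h2 : q (m d) ⤳ b := by
    have := (hde.map m.continuous).map q.continuous
    refine this.trans (specializes_of_eq ?_)
    have e : eExt (fs G eU) (ek G eU) (ek_fs G eU) F ≫ m ≫ q = u := by
      rw [← Category.assoc, hm, Category.assoc, hσ, Category.comp_id]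
    rw [← Scheme.Hom.comp_apply, ← Scheme.Hom.comp_apply, e]
    exact (pullback (fs G eU) (ext k κ)).fromSpecResidueField_apply b _
  exact (ha _ h1).symm.trans (hb _ h2)

theorem geometricallyIrreducible_component {Z : Scheme.{u}} (ι : Z ⟶ G.R) [IsClosedImmersion ι] {η : G.R}
    (hη : IsMax η) (hηe : η ⤳ ek G eU (IsLocalRing.closedPoint k)) (hr : Set.range ι = closure {η}) :
    GeometricallyIrreducible (ι ≫ fs G eU) := by
  have hstab : ∀ {y z : G.R}, η ⤳ z → y ⤳ z → η ⤳ y := fun h h' =>
    max_specializes_gen (exists_common_gen G eU) hη h h'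
  refine ⟨geometrically_iff_of_isClosedUnderIsomorphisms.mpr fun F _ t => ?_⟩
  obtain ⟨ψ, rfl⟩ := Spec.map_surjective t
  let := ψ.hom.toAlgebra
  let m := pullback.map (ι ≫ fs G eU) (ext k F) (fs G eU) (ext k F) ι (𝟙 _) (𝟙 _) (by simp) (by simp)
  have : MorphismProperty.IsStableUnderComposition @IsClosedImmersion :=
    MorphismProperty.IsMultiplicative.toIsStableUnderComposition
  have hm : IsClosedImmersion m := MorphismProperty.pullbackMap (P := @IsClosedImmersion)
    (show IsClosedImmersion ι from inferInstance) (show IsClosedImmersion (𝟙 _) from inferInstance)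
    rfl (Category.id_comp _).symm
  have hrange : Set.range m = pullback.fst (fs G eU) (ext k F) ⁻¹' Set.range ι := by
    refine (Scheme.Pullback.range_map ..).trans ?_
    simp
  have := isIrreducible_preimage_closure _ _ (ek_fs G eU) F hη hηe hstab (hone_groupoid G eU hη hηe)
  rw [← hr, ← hrange] at this
  have : IrreducibleSpace (Set.range m) := isIrreducible_iff_irreducibleSpace.mp this
  exact m.isEmbedding.toHomeomorph.irreducibleSpace_iff.mpr this

theorem geometricallyIrreducible_both {Z : Scheme.{u}} (ι : Z ⟶ G.R) [IsClosedImmersion ι]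
    (hZ : Set.range ι ∈ irreducibleComponents G.R) (he : G.e (eU.inv (IsLocalRing.closedPoint k)) ∈ Set.range ι) :
    GeometricallyIrreducible (ι ≫ fs G eU) ∧ GeometricallyIrreducible (ι ≫ ft G eU) := by
  obtain ⟨η, hη, hr⟩ := exists_max_of_component hZ
  have hηe : η ⤳ ek G eU (IsLocalRing.closedPoint k) := specializes_iff_mem_closure.2 (hr ▸ he)
  refine ⟨geometricallyIrreducible_component G eU ι hη hηe hr, ?_⟩
  haveI : IsIso G.i := ⟨G.i, GrpdBasic.i_i G, GrpdBasic.i_i G⟩
  have hii : ∀ y, G.i (G.i y) = y := fun y => by rw [← Scheme.Hom.comp_apply, GrpdBasic.i_i]; rfl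
  have hiη : IsMax (G.i η) := fun y hy => by
    have := hη _ ((hii η) ▸ hy.map G.i.continuous)
    rw [← hii y, this]
  have hie : G.i (ek G eU (IsLocalRing.closedPoint k)) = ek G eU (IsLocalRing.closedPoint k) := by
    rw [← Scheme.Hom.comp_apply, ek, Category.assoc, e_i]
  have heq : G.i η = η :=
    max_unique (exists_common_gen G eU) hiη hη (hie ▸ hηe.map G.i.continuous) hηe
  have hr' : Set.range (ι ≫ G.i) = closure {η} := by
    rw [show ⇑(ι ≫ G.i) = ⇑G.i ∘ ⇑ι from funext fun z => Scheme.Hom.comp_apply _ _ z, Set.range_comp, hr]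
    refine (G.i.homeomorph.image_closure {η}).trans ?_
    rw [Set.image_singleton]
    exact congrArg (fun x => closure {x}) heq
  have := geometricallyIrreducible_component G eU (ι ≫ G.i) hη hηe hr'
  rwa [show (ι ≫ G.i) ≫ fs G eU = ι ≫ ft G eU by simp [fs, ft, reassoc_of% G.i_s]] at this

end Groth.Agent.GrpdClosed
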