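import Groth.Agent.GrpdClosed.Image
import Groth.Agent.GrpSchField.Component
import Groth.Agent.ImmDescent.Basic
import Groth.Agent.Transporter.Subgroup

/-!
# Images of quasi-compact homomorphisms of group schemes over a field
-/

set_option autoImplicit false
set_option linter.style.haveILetI false
universe u
open CategoryTheory Limits AlgebraicGeometry MonoidalCategory CartesianMonoidalCategory MonObj GrpObj

namespace Groth.Agent.GrpImage

open Groth.Agent.GrpSchField

variable {K : Type u} [Field K]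

theorem dominant_pullbackMap {A A' B B' U : Scheme.{u}} (q : A ⟶ A') (r : B ⟶ B')
    [IsSchemeTheoreticallyDominant q] [QuasiCompact q] [IsSchemeTheoreticallyDominant r] [QuasiCompact r]
    (eU : U ≅ Spec (CommRingCat.of K)) (s : A ⟶ U) (s' : A' ⟶ U) (t : B ⟶ U) (t' : B' ⟶ U)
    (e₁ : s ≫ 𝟙 U = q ≫ s') (e₂ : t ≫ 𝟙 U = r ≫ t') :
    IsSchemeTheoreticallyDominant (pullback.map s t s' t' q r (𝟙 U) e₁ e₂) ∧
      QuasiCompact (pullback.map s t s' t' q r (𝟙 U) e₁ e₂) := by
  obtain rfl : s = q ≫ s' := by simpa using e₁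
  obtain rfl : t = r ≫ t' := by simpa using e₂
  haveI := GrpdClosed.flat_to_field eU s'
  haveI := GrpdClosed.flat_to_field eU (r ≫ t')
  haveI := GrpdClosed.flat_to_field eU t'
  obtain ⟨h1, h1'⟩ := GrpdClosed.dominant_map_left q s' (r ≫ t')
  obtain ⟨h2, h2'⟩ := GrpdClosed.dominant_map_right r s' t'
  have e : pullback.map (q ≫ s') (r ≫ t') s' t' q r (𝟙 U) e₁ e₂ =
      pullback.map (q ≫ s') (r ≫ t') s' (r ≫ t') q (𝟙 B) (𝟙 U) (by simp) (by simp) ≫
        pullback.map s' (r ≫ t') s' t' (𝟙 A') r (𝟙 U) (by simp) (by simp) := by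
    refine pullback.hom_ext ?_ ?_
    · exact (pullback.lift_fst _ _ _).trans (Eq.symm ((Category.assoc _ _ _).trans
        ((congrArg (_ ≫ ·) ((pullback.lift_fst _ _ _).trans (Category.comp_id _))).trans (pullback.lift_fst _ _ _))))
    · exact (pullback.lift_snd _ _ _).trans (Eq.symm ((Category.assoc _ _ _).trans
        ((congrArg (_ ≫ ·) (pullback.lift_snd _ _ _)).trans
          ((pullback.lift_snd_assoc _ _ _ _).trans (congrArg (· ≫ r) (Category.comp_id _))))))
  rw [e]
  exact ⟨inferInstance, inferInstance⟩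

theorem dominant_tensor {H K' H₂ K₂ : Over (Spec (CommRingCat.of K))} (g : H ⟶ K') (g₂ : H₂ ⟶ K₂)
    [IsSchemeTheoreticallyDominant g.left] [QuasiCompact g.left]
    [IsSchemeTheoreticallyDominant g₂.left] [QuasiCompact g₂.left] :
    IsSchemeTheoreticallyDominant (g ⊗ₘ g₂).left := by
  rw [Over.tensorHom_left]
  exact (dominant_pullbackMap g.left g₂.left (Iso.refl _) H.hom K'.hom H₂.hom K₂.hom
    ((Category.comp_id _).trans (Over.w g).symm) ((Category.comp_id _).trans (Over.w g₂).symm)).1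

variable {H G : Over (Spec (CommRingCat.of K))} [GrpObj H] [GrpObj G] (f : H ⟶ G) [IsMonHom f]

/-- A quasi-compact homomorphism has closed image. -/
theorem isClosed_range [QuasiCompact f.left] : IsClosed (Set.range f.left) := by
  refine isClosed_of_closure_subset fun g hg => ?_
  set C := closure (Set.range f.left) with hC
  have hi' : ∀ x ∈ C, ι[G].left x ∈ C := fun x hx =>
    closure_mono (Set.image_subset_iff.2
      (show Set.range f.left ⊆ ι[G].left ⁻¹' Set.range f.left from fun _ h => GrpSchField.inv_mem_range f h))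
      (image_closure_subset_closure_image ι[G].left.continuous ⟨x, hx, rfl⟩)
  have hm' : mulSet C C ⊆ C :=
    mulSet_closure_right isClosed_closure
      (mulSet_closure_left isClosed_closure ((mulSet_range f).trans subset_closure))
  have hmax : ∀ c ∈ C, (∀ c', c' ∈ C → c' ⤳ c → c' = c) → c ∈ Set.range f.left := fun c hc h => by
    obtain ⟨x, hx⟩ := ImmDescent.exists_specializes_of_mem_closure_range f.left hc
    exact ⟨x, h _ (subset_closure ⟨x, rfl⟩) hx⟩
  let T := pt g
  let gT : T ⟶ G := ptι g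
  let φ : G ⊗ T ≅ G ⊗ T :=
    { hom := lift ((fst G T)⁻¹ * (snd G T ≫ gT)) (snd G T)
      inv := lift ((snd G T ≫ gT) * (fst G T)⁻¹) (snd G T)
      hom_inv_id := by ext <;> simp [comp_mul, comp_inv]
      inv_hom_id := by ext <;> simp [comp_mul, comp_inv] }
  let A : Set (G ⊗ T).left := (fst G T).left ⁻¹' C
  have hsnd : ∀ w, (snd G T ≫ gT).left w ∈ C := fun w => by
    rw [comp_left_apply, ptι_apply]; exact hg
  have hfw : ∀ w ∈ A, φ.hom.left w ∈ A := fun w hw => by
    show (fst G T).left (φ.hom.left w) ∈ C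
    rw [lift_fst_apply]
    exact hm' (mul_apply_mem _ _ w (by rw [GrpSchField.inv_apply]; exact hi' _ hw) (hsnd w))
  have hbw : ∀ w ∈ A, φ.inv.left w ∈ A := fun w hw => by
    show (fst G T).left (φ.inv.left w) ∈ C
    rw [lift_fst_apply]
    exact hm' (mul_apply_mem _ _ w (hsnd w) (by rw [GrpSchField.inv_apply]; exact hi' _ hw))
  have hcl : IsClosed A := isClosed_closure.preimage (fst G T).left.continuous
  obtain ⟨w, hwA, hw⟩ : ∃ w ∈ A, ∀ w' ∈ A, w' ⤳ w → w' = w := by
    have hne : (lift gT (𝟙 T)).left (ptPt g) ∈ A := by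
      show (fst G T).left _ ∈ C
      rw [lift_fst_apply, ptι_apply]; exact hg
    haveI : QuasiSober A := hcl.isClosedEmbedding_subtypeVal.quasiSober
    obtain ⟨⟨w, hwA⟩, -, hw⟩ := exists_max_gen (⟨_, hne⟩ : A)
    refine ⟨w, hwA, fun w' hw' h => ?_⟩
    exact (h.antisymm ((hw ⟨w', hw'⟩ (Topology.IsInducing.subtypeVal.specializes_iff.mp h)).map continuous_subtype_val)).eq
  have hgood : ∀ v ∈ A, (∀ v' ∈ A, v' ⤳ v → v' = v) → (fst G T).left v ∈ Set.range f.left := by
    intro v hv h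
    refine hmax _ hv fun c' hc' hh => ?_
    obtain ⟨v', hv', rfl⟩ := exists_lift_gen hh
    rw [h v' hc' hv']
  have hinv : ∀ v, φ.inv.left (φ.hom.left v) = v := fun v => by
    rw [← comp_left_apply, Iso.hom_inv_id]; rfl
  have hinv' : ∀ v, φ.hom.left (φ.inv.left v) = v := fun v => by
    rw [← comp_left_apply, Iso.inv_hom_id]; rfl
  have h2 : (fst G T).left (φ.hom.left w) ∈ Set.range f.left := by
    refine hgood _ (hfw w hwA) fun v hv h => ?_
    rw [← hinv' v]
    congr 1
    exact hw _ (hbw v hv) ((hinv w) ▸ h.map φ.inv.left.continuous)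
  rw [lift_fst_apply] at h2
  have h3 := mulSet_range f (mul_apply_mem (fst G T) _ w (hgood w hwA hw) h2)
  rwa [mul_inv_cancel_left, comp_left_apply, ptι_apply] at h3

variable {K' : Over (Spec (CommRingCat.of K))} (i : K' ⟶ G) [IsClosedImmersion i.left] (g : H ⟶ K')
  [IsSchemeTheoreticallyDominant g.left]

omit [IsMonHom f] in
theorem quasiCompact_g [QuasiCompact f.left] (hgi : g ≫ i = f) : QuasiCompact g.left := by
  haveI : QuasiCompact (g.left ≫ i.left) := by rw [← Over.comp_left, hgi]; infer_instance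
  exact QuasiCompact.of_comp g.left i.left

theorem subgroup [QuasiCompact f.left] (hgi : g ≫ i = f) :
    (∃ e : 𝟙_ (Over (Spec (CommRingCat.of K))) ⟶ K', e ≫ i = η[G]) ∧
      ∀ (T : Over (Spec (CommRingCat.of K))) (k₁ k₂ : T ⟶ K'),
        ∃ k₃ : T ⟶ K', k₃ ≫ i = (k₁ ≫ i)⁻¹ * (k₂ ≫ i) := by
  haveI := quasiCompact_g f i g hgi
  refine ⟨⟨η[H] ≫ g, by rw [Category.assoc, hgi, IsMonHom.one_hom]⟩, ?_⟩
  let D : K' ⊗ K' ⟶ G := (fst K' K' ≫ i)⁻¹ * (snd K' K' ≫ i)
  haveI := dominant_tensor g g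
  have hd : ((fst H H)⁻¹ * snd H H) ≫ f = (g ⊗ₘ g) ≫ D := by
    simp only [D, MonObj.comp_mul, GrpObj.comp_inv, tensorHom_fst_assoc, tensorHom_snd_assoc, MonObj.mul_comp,
      GrpObj.inv_comp, hgi]
  have hk : i.left.ker ≤ D.left.ker :=
    GrpdClosed.ker_le_of_comp i.left D.left (g ⊗ₘ g).left (((fst H H)⁻¹ * snd H H) ≫ g).left (by
      rw [← Over.comp_left, Category.assoc, hgi, hd]; rfl)
  let D' : K' ⊗ K' ⟶ K' := Over.homMk (IsClosedImmersion.lift i.left D.left hk) (by
    rw [← Over.w i, IsClosedImmersion.lift_fac_assoc]; exact Over.w D)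
  have hD : D' ≫ i = D := Over.OverMorphism.ext (IsClosedImmersion.lift_fac _ _ _)
  intro T k₁ k₂
  refine ⟨lift k₁ k₂ ≫ D', ?_⟩
  rw [Category.assoc, hD]
  simp only [D, MonObj.comp_mul, GrpObj.comp_inv, lift_fst_assoc, lift_snd_assoc]

theorem surjective_g [QuasiCompact f.left] (hgi : g ≫ i = f) : Surjective g.left := by
  haveI := quasiCompact_g f i g hgi
  refine ⟨fun z => ?_⟩
  have hz : i.left z ∈ closure (Set.range f.left) := by
    have h1 : z ∈ closure (Set.range g.left) := g.left.denseRange z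
    refine closure_mono ?_ (image_closure_subset_closure_image i.left.continuous ⟨z, h1, rfl⟩)
    rintro _ ⟨_, ⟨h, rfl⟩, rfl⟩
    exact ⟨h, by rw [← comp_left_apply, hgi]⟩
  rw [(isClosed_range f).closure_eq] at hz
  obtain ⟨h, hh⟩ := hz
  exact ⟨h, i.left.isClosedEmbedding.injective (by rw [← comp_left_apply, hgi]; exact hh)⟩

theorem exists_factorisation [QuasiCompact f.left] :
    ∃ (H' : Over (Spec (CommRingCat.of K))) (_ : GrpObj H') (i : H' ⟶ G) (f' : H ⟶ H'),
      IsMonHom i ∧ IsMonHom f' ∧ f' ≫ i = f ∧ IsClosedImmersion i.left ∧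
      f'.left.ker = ⊥ ∧ QuasiCompact f'.left ∧ Surjective f'.left := by
  let H' : Over (Spec (CommRingCat.of K)) := Over.mk (f.left.imageι ≫ G.hom)
  let i : H' ⟶ G := Over.homMk f.left.imageι rfl
  let f' : H ⟶ H' := Over.homMk f.left.toImage (by
    show f.left.toImage ≫ f.left.imageι ≫ G.hom = H.hom
    rw [Scheme.Hom.toImage_imageι_assoc]; exact Over.w f)
  have hfi : f' ≫ i = f := Over.OverMorphism.ext f.left.toImage_imageι
  haveI : IsClosedImmersion i.left := inferInstanceAs (IsClosedImmersion f.left.imageι)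
  haveI : IsSchemeTheoreticallyDominant f'.left := GrpdClosed.isSchemeTheoreticallyDominant_toImage f.left
  haveI : Mono i := (Over.forget _).mono_of_mono_map (inferInstanceAs (Mono i.left))
  obtain ⟨⟨c, hc⟩, hdiv⟩ := subgroup f i f' hfi
  have hone : ∀ T : Over (Spec (CommRingCat.of K)), ∃ z : T ⟶ H', z ≫ i = 1 := fun T =>
    ⟨toUnit T ≫ c, by rw [Category.assoc, hc]; rfl⟩
  have hinv : ∀ (T : Over (Spec (CommRingCat.of K))) (a : T ⟶ H'), ∃ z : T ⟶ H', z ≫ i = (a ≫ i)⁻¹ :=
    fun T a => by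
      obtain ⟨o, ho⟩ := hone T
      obtain ⟨z, hz⟩ := hdiv T a o
      exact ⟨z, by rw [hz, ho, _root_.mul_one]⟩
  obtain ⟨_, _⟩ := Groth.Agent.Transporter.exists_grpObj_of_closed i ⟨c, by rw [hc, Hom.one_def]; simp⟩
    (fun T a b => by
      obtain ⟨z, hz⟩ := hinv T a
      obtain ⟨w, hw⟩ := hdiv T z b
      exact ⟨w, by rw [hw, hz, _root_.inv_inv]⟩) hinv
  refine ⟨H', inferInstance, i, f', inferInstance, ?_, hfi, inferInstance, f'.left.ker_eq_bot,
    quasiCompact_g f i f' hfi, surjective_g f i f' hfi⟩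
  constructor
  · rw [← cancel_mono i, Category.assoc, hfi, IsMonHom.one_hom, IsMonHom.one_hom]
  · show _ = _
    rw [← cancel_mono i, Category.assoc, hfi, Category.assoc, IsMonHom.mul_hom, IsMonHom.mul_hom,
      tensorHom_comp_tensorHom_assoc, hfi]

end Groth.Agent.GrpImage
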