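import Groth.Agent.GrpdClosed.Pair
import Mathlib.AlgebraicGeometry.Morphisms.SchemeTheoreticallyDominant
import Mathlib.AlgebraicGeometry.Morphisms.Flat

/-!
# Scheme-theoretic images of groupoid homomorphisms over a field
-/

set_option autoImplicit false
set_option linter.style.haveILetI false
universe u
open CategoryTheory CategoryTheory.Limits AlgebraicGeometry TopologicalSpace

namespace Groth.Agent.GrpdClosed

open GrpdBasic

/-- The map onto the scheme-theoretic image is scheme-theoretically dominant. -/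
theorem isSchemeTheoreticallyDominant_toImage {X Y : Scheme.{u}} (f : X ⟶ Y) [QuasiCompact f] :
    IsSchemeTheoreticallyDominant f.toImage := by
  rw [isSchemeTheoreticallyDominant_iff]
  have hU : ⨆ U : Y.affineOpens, f.imageι ⁻¹ᵁ U.1 = ⊤ := by
    rw [← Scheme.Hom.preimage_iSup, iSup_affineOpens_eq_top]; rfl
  refine Scheme.IdealSheafData.ext_of_iSup_eq_top (fun U : Y.affineOpens => ⟨_, U.2.preimage f.imageι⟩) hU
    fun U => ?_
  rw [Scheme.Hom.ker_apply, Scheme.IdealSheafData.ideal_bot, Pi.bot_apply]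
  exact (RingHom.injective_iff_ker_eq_bot _).1 (f.toImage_app_injective U)

theorem flat_to_field {k : Type u} [Field k] {U : Scheme.{u}} (eU : U ≅ Spec (CommRingCat.of k)) {X : Scheme.{u}}
    (f : X ⟶ U) : Flat f := by
  have e : f = (f ≫ eU.hom) ≫ eU.inv := by simp
  rw [e]; infer_instance

theorem dominant_map_left {A A' B U : Scheme.{u}} (q : A ⟶ A') [IsSchemeTheoreticallyDominant q] [QuasiCompact q]
    (s' : A' ⟶ U) (g : B ⟶ U) [Flat (pullback.fst s' g)] :
    IsSchemeTheoreticallyDominant (pullback.map (q ≫ s') g s' g q (𝟙 B) (𝟙 U) (by simp) (by simp)) ∧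
      QuasiCompact (pullback.map (q ≫ s') g s' g q (𝟙 B) (𝟙 U) (by simp) (by simp)) := by
  have e : pullback.map (q ≫ s') g s' g q (𝟙 B) (𝟙 U) (by simp) (by simp) =
      (pullbackRightPullbackFstIso s' g q).inv ≫ pullback.snd q (pullback.fst s' g) := by
    refine pullback.hom_ext ?_ ?_
    · exact (pullback.lift_fst _ _ _).trans ((pullbackRightPullbackFstIso_inv_snd_fst s' g q).symm.trans
        (Category.assoc _ _ _).symm)
    · exact (pullback.lift_snd _ _ _).trans ((Category.comp_id _).trans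
        ((pullbackRightPullbackFstIso_inv_snd_snd s' g q).symm.trans (Category.assoc _ _ _).symm))
  rw [e]
  exact ⟨inferInstance, inferInstance⟩

theorem dominant_map_right {A B B' U : Scheme.{u}} (q : B ⟶ B') [IsSchemeTheoreticallyDominant q] [QuasiCompact q]
    (s' : A ⟶ U) (t' : B' ⟶ U) [Flat (pullback.snd s' t')] :
    IsSchemeTheoreticallyDominant (pullback.map s' (q ≫ t') s' t' (𝟙 A) q (𝟙 U) (by simp) (by simp)) ∧
      QuasiCompact (pullback.map s' (q ≫ t') s' t' (𝟙 A) q (𝟙 U) (by simp) (by simp)) := by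
  have e : pullback.map s' (q ≫ t') s' t' (𝟙 A) q (𝟙 U) (by simp) (by simp) =
      (pullbackLeftPullbackSndIso s' t' q).inv ≫ pullback.fst (pullback.snd s' t') q := by
    refine pullback.hom_ext ?_ ?_
    · exact (pullback.lift_fst _ _ _).trans ((Category.comp_id _).trans
        ((pullbackLeftPullbackSndIso_inv_fst s' t' q).symm.trans (Category.assoc _ _ _).symm))
    · exact (pullback.lift_snd _ _ _).trans ((pullbackLeftPullbackSndIso_inv_fst_snd s' t' q).symm.trans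
        (Category.assoc _ _ _).symm)
  rw [e]
  exact ⟨inferInstance, inferInstance⟩

/-- Descent of a factorisation through a closed immersion along a dominant morphism. -/
theorem ker_le_of_comp {W W' R Z : Scheme.{u}} (ι : Z ⟶ R) (g : W ⟶ R) (d : W' ⟶ W)
    [IsSchemeTheoreticallyDominant d] (g' : W' ⟶ Z) (h : g' ≫ ι = d ≫ g) : ι.ker ≤ g.ker := by
  refine (Scheme.Hom.le_ker_comp g' ι).trans ?_
  rw [h, Scheme.Hom.ker_comp, d.ker_eq_bot, Scheme.IdealSheafData.map_bot]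

variable {k : Type u} [Field k] {S : Scheme.{u}} {G₁ G : Grpd.GroupoidScheme S} (a : Grpd.GroupoidScheme.Hom G₁ G)
  [IsIso a.fU] [QuasiCompact a.fR]

/-- The scheme-theoretic image is a subgroupoid over a field. -/
theorem exists_sub_image (eU : G.U ≅ Spec (CommRingCat.of k)) :
    ∃ (c' : pullback (a.fR.imageι ≫ G.s) (a.fR.imageι ≫ G.t) ⟶ a.fR.image)
      (_ : c' ≫ a.fR.imageι = pullback.map (a.fR.imageι ≫ G.s) (a.fR.imageι ≫ G.t) G.s G.t
        a.fR.imageι a.fR.imageι (𝟙 _) (by simp) (by simp) ≫ G.c)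
      (e' : G.U ⟶ a.fR.image) (_ : e' ≫ a.fR.imageι = G.e) (i' : a.fR.image ⟶ a.fR.image),
      i' ≫ a.fR.imageι = a.fR.imageι ≫ G.i := by
  let q := a.fR.toImage
  let ι := a.fR.imageι
  have hq : q ≫ ι = a.fR := a.fR.toImage_imageι
  have hqa : ∀ {Z : Scheme.{u}} (f : G.R ⟶ Z), a.fR ≫ f = q ≫ ι ≫ f := fun f => by
    rw [← Category.assoc, hq]
  haveI := isSchemeTheoreticallyDominant_toImage a.fR
  haveI := flat_to_field eU (ι ≫ G.s)
  haveI := flat_to_field eU (q ≫ ι ≫ G.t)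
  haveI := flat_to_field eU (ι ≫ G.t)
  obtain ⟨h1, h1'⟩ := dominant_map_left q (ι ≫ G.s) (q ≫ ι ≫ G.t)
  obtain ⟨h2, h2'⟩ := dominant_map_right q (ι ≫ G.s) (ι ≫ G.t)
  let d := pullback.map (q ≫ ι ≫ G.s) (q ≫ ι ≫ G.t) (ι ≫ G.s) (q ≫ ι ≫ G.t) q (𝟙 G₁.R) (𝟙 G.U) (by simp) (by simp) ≫
    pullback.map (ι ≫ G.s) (q ≫ ι ≫ G.t) (ι ≫ G.s) (ι ≫ G.t) (𝟙 _) q (𝟙 G.U) (by simp) (by simp)
  haveI : IsSchemeTheoreticallyDominant d := inferInstanceAs (IsSchemeTheoreticallyDominant (_ ≫ _))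
  let α := pullback.fst (q ≫ ι ≫ G.s) (q ≫ ι ≫ G.t)
  let β := pullback.snd (q ≫ ι ≫ G.s) (q ≫ ι ≫ G.t)
  have hαβ : α ≫ G₁.s = β ≫ G₁.t := by
    rw [← cancel_mono a.fU, Category.assoc, Category.assoc, ← a.comm_s, ← a.comm_t, hqa, hqa]
    exact pullback.condition
  let mp := pullback.map (ι ≫ G.s) (ι ≫ G.t) G.s G.t ι ι (𝟙 _) (by simp) (by simp)
  have hd1 : d ≫ pullback.fst (ι ≫ G.s) (ι ≫ G.t) = α ≫ q :=
    (Category.assoc _ _ _).trans ((congrArg _ ((pullback.lift_fst _ _ _).trans (Category.comp_id _))).trans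
      (pullback.lift_fst _ _ _))
  have hd2 : d ≫ pullback.snd (ι ≫ G.s) (ι ≫ G.t) = β ≫ q :=
    (Category.assoc _ _ _).trans ((congrArg _ (pullback.lift_snd _ _ _)).trans
      ((pullback.lift_snd_assoc _ _ _ _).trans ((congrArg (· ≫ q) (Category.comp_id _)))))
  have hg' : (mul G₁ α β hαβ ≫ q) ≫ ι = d ≫ mp ≫ G.c := by
    rw [Category.assoc, hq, mul_fR, c_eq, comp_mul, comp_mul]
    refine mul_congr G ?_ ?_ _
    · exact ((congrArg (d ≫ ·) (pullback.lift_fst _ _ _)).trans ((Category.assoc _ _ _).symm.trans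
        ((congrArg (· ≫ ι) hd1).trans ((Category.assoc _ _ _).trans (congrArg (α ≫ ·) hq))))).symm
    · exact ((congrArg (d ≫ ·) (pullback.lift_snd _ _ _)).trans ((Category.assoc _ _ _).symm.trans
        ((congrArg (· ≫ ι) hd2).trans ((Category.assoc _ _ _).trans (congrArg (β ≫ ·) hq))))).symm
  have hc := ker_le_of_comp ι (mp ≫ G.c) d _ hg'
  have hi : ι.ker ≤ (ι ≫ G.i).ker := ker_le_of_comp ι (ι ≫ G.i) q (G₁.i ≫ q)
    (by rw [Category.assoc, hq, i_fR, hqa])
  refine ⟨IsClosedImmersion.lift ι (mp ≫ G.c) hc, IsClosedImmersion.lift_fac _ _ _, inv a.fU ≫ G₁.e ≫ q, ?_,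
    IsClosedImmersion.lift ι (ι ≫ G.i) hi, IsClosedImmersion.lift_fac _ _ _⟩
  rw [Category.assoc, Category.assoc, hq, e_fR, IsIso.inv_hom_id_assoc]

end Groth.Agent.GrpdClosed
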