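import Groth.Agent.GrpdClosed.Sub

/-!
# The pair groupoid
-/

set_option autoImplicit false
universe u
open CategoryTheory CategoryTheory.Limits AlgebraicGeometry

namespace Groth.Agent.GrpdClosed

variable {S : Scheme.{u}} {U : Scheme.{u}} (p : U ⟶ S)

/-- Composition of pairs. -/
noncomputable def pairC : pullback (pullback.snd p p) (pullback.fst p p) ⟶ pullback p p :=
  pullback.lift (pullback.fst (pullback.snd p p) (pullback.fst p p) ≫ pullback.fst p p)
    (pullback.snd (pullback.snd p p) (pullback.fst p p) ≫ pullback.snd p p)
    (by rw [Category.assoc, Category.assoc, pullback.condition (f := p) (g := p),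
      pullback.condition_assoc (f := pullback.snd p p) (g := pullback.fst p p), pullback.condition (f := p) (g := p)])

@[reassoc]
theorem lift_pairC_fst {T : Scheme.{u}} (α β : T ⟶ pullback p p) (h : α ≫ pullback.snd p p = β ≫ pullback.fst p p) :
    (pullback.lift α β h ≫ pairC p) ≫ pullback.fst p p = α ≫ pullback.fst p p :=
  (Category.assoc _ _ _).trans ((congrArg _ (pullback.lift_fst _ _ _)).trans (pullback.lift_fst_assoc _ _ _ _))

@[reassoc]
theorem lift_pairC_snd {T : Scheme.{u}} (α β : T ⟶ pullback p p) (h : α ≫ pullback.snd p p = β ≫ pullback.fst p p) :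
    (pullback.lift α β h ≫ pairC p) ≫ pullback.snd p p = β ≫ pullback.snd p p :=
  (Category.assoc _ _ _).trans ((congrArg _ (pullback.lift_snd _ _ _)).trans (pullback.lift_snd_assoc _ _ _ _))

/-- The groupoid `U ×_S U` of pairs. -/
noncomputable def pair : Grpd.GroupoidScheme S where
  U := U
  R := pullback p p
  pU := p
  pR := pullback.fst p p ≫ p
  s := pullback.snd p p
  t := pullback.fst p p
  e := pullback.diagonal p
  i := (pullbackSymmetry p p).hom
  c := pairC p
  s_over := pullback.condition.symm
  t_over := rfl
  comp_s α β h := lift_pairC_snd p α β h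
  comp_t α β h := lift_pairC_fst p α β h
  assoc α β γ h₁ h₂ := by
    refine pullback.hom_ext ?_ ?_
    · rw [lift_pairC_fst, lift_pairC_fst, lift_pairC_fst]
    · rw [lift_pairC_snd, lift_pairC_snd, lift_pairC_snd]
  e_s := pullback.lift_snd _ _ _
  e_t := pullback.lift_fst _ _ _
  comp_e α := by
    refine pullback.hom_ext ?_ ?_
    · rw [lift_pairC_fst]
    · rw [lift_pairC_snd, Category.assoc, Category.assoc, pullback.diagonal_snd, Category.comp_id]
  e_comp α := by
    refine pullback.hom_ext ?_ ?_
    · rw [lift_pairC_fst, Category.assoc, Category.assoc, pullback.diagonal_fst, Category.comp_id]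
    · rw [lift_pairC_snd]
  i_s := pullbackSymmetry_hom_comp_snd p p
  i_t := pullbackSymmetry_hom_comp_fst p p
  comp_i α := by
    refine pullback.hom_ext ?_ ?_
    · rw [lift_pairC_fst, Category.assoc, Category.assoc, pullback.diagonal_fst, Category.comp_id]
    · rw [lift_pairC_snd, Category.assoc, Category.assoc, Category.assoc, pullbackSymmetry_hom_comp_snd,
        pullback.diagonal_snd, Category.comp_id]
  i_comp α := by
    refine pullback.hom_ext ?_ ?_
    · rw [lift_pairC_fst, Category.assoc, Category.assoc, Category.assoc, pullbackSymmetry_hom_comp_fst,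
        pullback.diagonal_fst, Category.comp_id]
    · rw [lift_pairC_snd, Category.assoc, Category.assoc, pullback.diagonal_snd, Category.comp_id]

variable (G : Grpd.GroupoidScheme S)

/-- `j = (t, s)` as a homomorphism to the pair groupoid. -/
noncomputable def jHom : Grpd.GroupoidScheme.Hom G (pair G.pU) where
  fU := 𝟙 G.U
  fR := G.j
  fU_over := Category.id_comp _
  comm_s := (pullback.lift_snd _ _ _).trans (Category.comp_id _).symm
  comm_t := (pullback.lift_fst _ _ _).trans (Category.comp_id _).symm
  comm_c := fun {T} α β h => by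
    refine pullback.hom_ext ?_ ?_
    · refine Eq.trans ?_ (lift_pairC_fst G.pU _ _ _).symm
      have hj1 : G.j ≫ pullback.fst G.pU G.pU = G.t := pullback.lift_fst _ _ _
      exact (Category.assoc _ _ _).trans ((congrArg _ hj1).trans ((G.comp_t α β h).trans
        ((congrArg (α ≫ ·) hj1.symm).trans (Category.assoc _ _ _).symm)))
    · refine Eq.trans ?_ (lift_pairC_snd G.pU _ _ _).symm
      have hj2 : G.j ≫ pullback.snd G.pU G.pU = G.s := pullback.lift_snd _ _ _
      exact (Category.assoc _ _ _).trans ((congrArg _ hj2).trans ((G.comp_s α β h).trans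
        ((congrArg (β ≫ ·) hj2.symm).trans (Category.assoc _ _ _).symm)))

end Groth.Agent.GrpdClosed
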