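import Groth.Agent.GrpdBasic.Basic
import Mathlib.AlgebraicGeometry.Morphisms.Separated
import Mathlib.AlgebraicGeometry.Morphisms.Immersion
import Mathlib.Topology.LocalAtTarget

/-!
# A groupoid scheme over a field has separated arrows
-/

set_option autoImplicit false
set_option linter.style.haveILetI false
universe u
open CategoryTheory CategoryTheory.Limits AlgebraicGeometry TopologicalSpace

namespace Groth.Agent.GrpdClosed

open GrpdBasic

/-- A section of a morphism to a one-point affine scheme is a closed immersion. -/
theorem isClosedImmersion_section {X U : Scheme.{u}} [IsAffine U] [Subsingleton U] (s : X ⟶ U) (e : U ⟶ X)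
    (h : e ≫ s = 𝟙 U) : IsClosedImmersion e := by
  haveI : IsImmersion (e ≫ s) := by rw [h]; infer_instance
  haveI : IsImmersion e := IsImmersion.of_comp e s
  refine IsClosedImmersion.of_isPreimmersion e ?_
  rw [TopologicalSpace.IsOpenCover.isClosed_iff_coe_preimage (iSup_affineOpens_eq_top X)]
  intro V
  rcases Set.eq_empty_or_nonempty ((Subtype.val : V.1 → X) ⁻¹' Set.range e) with h0 | ⟨x, u, hu⟩
  · rw [h0]; exact isClosed_empty
  · have hr : Set.range e ⊆ Set.range V.1.ι := by
      rintro _ ⟨v, rfl⟩
      rw [Scheme.Opens.range_ι, Subsingleton.elim v u, hu]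
      exact x.2
    let e' := IsOpenImmersion.lift V.1.ι e hr
    haveI : IsAffine V.1 := V.2
    haveI : IsClosedImmersion (e' ≫ V.1.ι ≫ s) := by
      rw [IsOpenImmersion.lift_fac_assoc, h]; infer_instance
    haveI : IsClosedImmersion e' := IsClosedImmersion.of_comp e' (V.1.ι ≫ s)
    have he : ((Subtype.val : V.1 → X) ⁻¹' Set.range e) = Set.range e' := by
      ext v
      constructor
      · rintro ⟨w, hw⟩
        exact ⟨w, V.1.ι.isOpenEmbedding.injective (((Scheme.Hom.comp_apply e' V.1.ι w).symm.trans
          (by rw [IsOpenImmersion.lift_fac])).trans hw)⟩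
      · rintro ⟨w, rfl⟩
        exact ⟨w, by rw [← IsOpenImmersion.lift_fac V.1.ι e hr]; exact Scheme.Hom.comp_apply e' V.1.ι w⟩
    rw [he]
    exact e'.isClosedEmbedding.isClosed_range

variable {S : Scheme.{u}} (G : Grpd.GroupoidScheme S)

/-- `(a, b) ↦ a ∘ b⁻¹` on pairs with the same source. -/
noncomputable def quo : pullback G.s G.s ⟶ G.R :=
  mul G (pullback.fst G.s G.s) (pullback.snd G.s G.s ≫ G.i)
    (by rw [pullback.condition, Category.assoc, G.i_t])

theorem isPullback_diagonal : IsPullback (pullback.diagonal G.s) G.t (quo G) G.e := by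
  have hw : pullback.diagonal G.s ≫ quo G = G.t ≫ G.e := by
    rw [quo, comp_mul]
    refine (mul_congr G (pullback.diagonal_fst G.s)
      ((pullback.diagonal_snd_assoc G.s G.i).trans (Category.id_comp _).symm) _).trans ?_
    exact (mul_inv G (𝟙 G.R)).trans (Category.id_comp _)
  refine IsPullback.of_isLimit (c := PullbackCone.mk (pullback.diagonal G.s) G.t hw)
    (PullbackCone.IsLimit.mk _ (fun q => q.fst ≫ pullback.fst G.s G.s) (fun q => ?_) (fun q => ?_)
      (fun q m h₁ h₂ => ?_))
  · let a := q.fst ≫ pullback.fst G.s G.s
    let b := q.fst ≫ pullback.snd G.s G.s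
    have hab : a ≫ G.s = b ≫ G.s := by simp only [a, b, Category.assoc, pullback.condition]
    have hq : mul G a (b ≫ G.i) (hab.trans ((congrArg (b ≫ ·) G.i_t).symm.trans (Category.assoc _ _ _).symm))
        = q.snd ≫ G.e := by
      refine Eq.trans ?_ q.condition
      refine Eq.trans ?_ (comp_mul G q.fst _ _ _).symm
      exact mul_congr G rfl (Category.assoc _ _ _) _
    have hy : q.snd = b ≫ G.t := by
      have := congrArg (· ≫ G.s) hq
      simp only [mul_s, Category.assoc, G.e_s, Category.comp_id, G.i_s] at this
      exact this.symm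
    have hba : a = b := by
      rw [← inv_mul_cancel_right G a b hab]
      refine one_mul G b _ ?_ _
      rw [hq, hy, Category.assoc]
    refine pullback.hom_ext (by simp [a]) ?_
    simpa [a, b] using hba
  · have := congrArg (· ≫ G.t) q.condition
    simp only [quo, Category.assoc, mul_t, G.e_t, Category.comp_id] at this
    rw [Category.assoc]
    exact this
  · rw [← h₁, Category.assoc, pullback.diagonal_fst, Category.comp_id]

/-- The source map is separated when `U` is a one-point affine scheme. -/
theorem isSeparated_s [IsAffine G.U] [Subsingleton G.U] : IsSeparated G.s :=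
  ⟨MorphismProperty.of_isPullback (P := @IsClosedImmersion) (isPullback_diagonal G).flip
    (isClosedImmersion_section G.s G.e G.e_s)⟩

theorem isSeparated_R [IsAffine G.U] [Subsingleton G.U] : G.R.IsSeparated := by
  haveI := isSeparated_s G
  constructor
  rw [← terminal.comp_from G.s]
  infer_instance

end Groth.Agent.GrpdClosed
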