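import Groth.Agent.GrpdClosed.CommonGen
import Groth.Agent.GrpSmooth.Main
import Groth.Agent.GrpSchField.SmoothCriterion
import Groth.Agent.FibrewiseCrit.Smooth

/-!
# Smoothness of the source and target of a groupoid scheme over a field
-/

set_option autoImplicit false
set_option linter.style.haveILetI false
universe u
open CategoryTheory CategoryTheory.Limits AlgebraicGeometry TopologicalSpace

namespace Groth.Agent.GrpdClosed

open GrpdBasic

theorem flat_to_field' {k : Type u} [Field k] {U : Scheme.{u}} (eU : U ≅ Spec (CommRingCat.of k)) {X : Scheme.{u}}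
    (f : X ⟶ U) : Flat f := by
  have e : f = (f ≫ eU.hom) ≫ eU.inv := by simp
  rw [e]; infer_instance

variable {S : Scheme.{u}} (G : Grpd.GroupoidScheme S) {k : Type u} [Field k]
  (eU : G.U ≅ Spec (CommRingCat.of k))

include eU in
/-- One smooth arrow suffices. -/
theorem smooth_s_of_point [LocallyOfFiniteType G.s] {r₀ : G.R} (h : r₀ ∈ (fs G eU).smoothLocus) :
    Smooth G.s := by
  have hfp : LocallyOfFinitePresentation (fs G eU) := inferInstance
  haveI : LocallyOfFinitePresentation G.s := by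
    have e : G.s = fs G eU ≫ eU.inv := by simp [fs]
    rw [e]; infer_instance
  haveI := flat_to_field' eU G.s
  haveI := flat_to_field' eU G.t
  haveI : Subsingleton (Spec (CommRingCat.of k)) := inferInstanceAs (Subsingleton (PrimeSpectrum k))
  haveI : Subsingleton G.U := eU.hom.homeomorph.injective.subsingleton
  haveI : LocallyOfFinitePresentation (pullback.snd G.s G.t) := inferInstance
  have key : ∀ p, G.c p ∈ G.s.smoothLocus ↔ pullback.fst G.s G.t p ∈ G.s.smoothLocus := fun p =>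
    (Groth.FibrewiseCrit.mem_smoothLocus_of_isPullback (isPullback_c G) p).symm.trans
      (Groth.FibrewiseCrit.mem_smoothLocus_of_isPullback (IsPullback.of_hasPullback G.s G.t) p)
  have hall : ∀ r, r ∈ G.s.smoothLocus ↔ G.e (G.t r₀) ∈ G.s.smoothLocus := fun r => by
    let p := pullback.lift (𝟙 G.R) G.i (by rw [Category.id_comp, G.i_t])
    have h1 : p ≫ G.c = G.t ≫ G.e := by
      have := GrpdBasic.mul_inv G (𝟙 G.R)
      simpa [mul, p] using this
    have h2 := key (p r)
    rw [← Scheme.Hom.comp_apply, h1, ← Scheme.Hom.comp_apply p, pullback.lift_fst] at h2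
    rw [Subsingleton.elim (G.t r₀) (G.t r), ← Scheme.Hom.comp_apply]
    exact h2.symm
  rw [← Scheme.Hom.smoothLocus_eq_top_iff, eq_top_iff]
  exact fun r _ => (hall r).2 ((hall r₀).1 ((Groth.FibrewiseCrit.mem_smoothLocus_comp_right G.s eU.hom r₀).1 h))

theorem smooth_t_of_smooth_s [Smooth G.s] : Smooth G.t := by
  haveI : IsIso G.i := ⟨G.i, GrpdBasic.i_i G, GrpdBasic.i_i G⟩
  rw [← G.i_s]; infer_instance

include eU in
theorem smooth_of_reduced_open [PerfectField k] [LocallyOfFiniteType G.s] (V : G.R.Opens)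
    [IsReduced (V : Scheme.{u})] (hV : (V : Set G.R).Nonempty) : Smooth G.s := by
  have : Nonempty (V : Scheme.{u}) := ⟨⟨_, hV.some_mem⟩⟩
  obtain ⟨y, hy⟩ := (V.ι ≫ fs G eU).dense_smoothLocus_of_perfectField.nonempty
  refine smooth_s_of_point G eU (r₀ := V.ι y) ?_
  rwa [← Scheme.Hom.preimage_smoothLocus_eq] at hy

/-- A point derivation as a ring map to dual numbers of the field. -/
noncomputable def ptDual {A : Type u} [CommRing A] [Algebra k A] (ε : A →ₐ[k] k) (l : A →ₗ[k] k)
    (hl : GrpSmooth.IsPtDeriv ε l) : A →+* DualNumber k where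
  toFun a := TrivSqZeroExt.inl (ε a) + TrivSqZeroExt.inr (l a)
  map_one' := by
    ext <;> simp [GrpSmooth.ptDeriv_one hl]
  map_mul' a b := by
    ext
    · simp
    · simp only [TrivSqZeroExt.snd_mul, TrivSqZeroExt.fst_add, TrivSqZeroExt.snd_add, TrivSqZeroExt.fst_inl,
        TrivSqZeroExt.snd_inl, TrivSqZeroExt.fst_inr, TrivSqZeroExt.snd_inr, add_zero, zero_add, smul_eq_mul,
        MulOpposite.smul_eq_mul_unop, MulOpposite.unop_op, hl a b]
      ring
  map_zero' := by ext <;> simp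
  map_add' a b := by ext <;> simp [map_add]

/-- Near the identity, point derivations extend to derivations. -/
theorem exists_chart (U : G.R.Opens) (hU : IsAffineOpen U)
    (he : ek G eU (IsLocalRing.closedPoint k) ∈ U) :
    ∃ (_ : Algebra k Γ(G.R, U)) (ε : Γ(G.R, U) →ₐ[k] k),
      Spec.map (CommRingCat.ofHom ε.toRingHom) ≫ hU.fromSpec = ek G eU ∧ GrpSmooth.HasDer ε := by
  let A : CommRingCat.{u} := Γ(G.R, U)
  let ρ : CommRingCat.of k ⟶ A := Spec.preimage (hU.fromSpec ≫ fs G eU)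
  have hρ : Spec.map ρ = hU.fromSpec ≫ fs G eU := Spec.map_preimage _
  let τ : CommRingCat.of k ⟶ A := Spec.preimage (hU.fromSpec ≫ ft G eU)
  have hτ : Spec.map τ = hU.fromSpec ≫ ft G eU := Spec.map_preimage _
  let _ : Algebra k A := ρ.hom.toAlgebra
  have hes : ek G eU ≫ fs G eU = 𝟙 _ := by simp [ek, fs, reassoc_of% G.e_s]
  have het : ek G eU ≫ ft G eU = 𝟙 _ := by simp [ek, ft, reassoc_of% G.e_t]
  have hre : Set.range (ek G eU) ⊆ Set.range hU.fromSpec := by
    rw [hU.range_fromSpec]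
    rintro _ ⟨x, rfl⟩
    rw [Subsingleton.elim (α := PrimeSpectrum k) x (IsLocalRing.closedPoint k)]
    exact he
  let ε₀ : A ⟶ CommRingCat.of k := Spec.preimage (IsOpenImmersion.lift hU.fromSpec (ek G eU) hre)
  have hε₀ : Spec.map ε₀ ≫ hU.fromSpec = ek G eU := by
    rw [Spec.map_preimage, IsOpenImmersion.lift_fac]
  have hcomp : ρ ≫ ε₀ = 𝟙 _ := Spec.map_injective (by
    rw [Spec.map_comp, hρ, reassoc_of% hε₀, Spec.map_id]; simpa [ek] using hes)
  have hcomp' : τ ≫ ε₀ = 𝟙 _ := Spec.map_injective (by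
    rw [Spec.map_comp, hτ, reassoc_of% hε₀, Spec.map_id]; simpa [ek] using het)
  let ε : A →ₐ[k] k :=
    { ε₀.hom with commutes' := fun c => congrArg (fun f => f.hom c) hcomp }
  refine ⟨inferInstance, ε, hε₀, fun l hl => ?_⟩
  let R : CommRingCat.{u} := CommRingCat.of (DualNumber A)
  let inlA : A ⟶ R := CommRingCat.ofHom (TrivSqZeroExt.inlHom A A)
  let fstA : R ⟶ A := CommRingCat.ofHom (TrivSqZeroExt.fstHom A A A).toRingHom
  let χ : A ⟶ R := CommRingCat.ofHom ((GrpSmooth.dualMap τ.hom).comp (ptDual ε l hl))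
  have hinlfst : inlA ≫ fstA = 𝟙 _ := by ext a; rfl
  have hl0 : ∀ c : k, l (algebraMap k A c) = 0 := fun c => by
    rw [Algebra.algebraMap_eq_smul_one, map_smul, GrpSmooth.ptDeriv_one hl, smul_zero]
  have hρχ : ρ ≫ χ = τ ≫ inlA := by
    refine CommRingCat.hom_ext (RingHom.ext fun c => ?_)
    show GrpSmooth.dualMap τ.hom (ptDual ε l hl (algebraMap k A c)) = TrivSqZeroExt.inl (τ.hom c)
    ext <;> simp [ptDual, GrpSmooth.dualMap, hl0]
  let g : Spec R ⟶ G.R := Spec.map inlA ≫ hU.fromSpec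
  let v : Spec R ⟶ G.R := Spec.map χ ≫ hU.fromSpec
  have hvg : v ≫ G.s = g ≫ G.t := by
    rw [← cancel_mono eU.hom]
    simp only [v, g, Category.assoc]
    rw [show G.s ≫ eU.hom = fs G eU from rfl, show G.t ≫ eU.hom = ft G eU from rfl, ← hρ, ← hτ,
      ← Spec.map_comp, ← Spec.map_comp, hρχ]
  let m : Spec R ⟶ G.R := mul G v g hvg
  let i : Spec A ⟶ Spec R := Spec.map fstA
  have hig : i ≫ g = hU.fromSpec := by
    show Spec.map fstA ≫ Spec.map inlA ≫ hU.fromSpec = hU.fromSpec
    rw [← Category.assoc, ← Spec.map_comp, hinlfst, Spec.map_id, Category.id_comp]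
  have hiv : i ≫ v = hU.fromSpec ≫ G.t ≫ G.e := by
    show Spec.map fstA ≫ Spec.map χ ≫ hU.fromSpec = _
    have : χ ≫ fstA = ε₀ ≫ τ := by
      ext a
      show (GrpSmooth.dualMap τ.hom (ptDual ε l hl a)).fst = τ.hom (ε a)
      simp [ptDual, GrpSmooth.dualMap]
    rw [← Category.assoc, ← Spec.map_comp, this, Spec.map_comp, Category.assoc, hε₀, hτ]
    simp [ek, ft]
  have him : i ≫ m = hU.fromSpec := by
    rw [comp_mul]
    refine (mul_congr G rfl hig _).trans (GrpdBasic.one_mul G hU.fromSpec _ hiv _)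
  have hrm : Set.range m ⊆ Set.range hU.fromSpec := by
    rintro _ ⟨x, rfl⟩
    obtain ⟨y, rfl⟩ : ∃ y, Spec.map fstA y = x := by
      refine ⟨PrimeSpectrum.comap inlA.hom x, PrimeSpectrum.ext ?_⟩
      ext r
      show TrivSqZeroExt.inl r.fst ∈ x.asIdeal ↔ r ∈ x.asIdeal
      have hn : TrivSqZeroExt.inr r.snd ∈ x.asIdeal := x.isPrime.mem_of_pow_mem 2 (by
        rw [pow_two, TrivSqZeroExt.inr_mul_inr]; exact x.asIdeal.zero_mem)
      conv_rhs => rw [← TrivSqZeroExt.inl_fst_add_inr_snd_eq r]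
      exact (Ideal.add_mem_iff_left _ hn).symm
    exact ⟨y, by rw [← Scheme.Hom.comp_apply, show Spec.map fstA ≫ m = _ from him]⟩
  let ψ : A ⟶ R := Spec.preimage (IsOpenImmersion.lift hU.fromSpec m hrm)
  have hψ : Spec.map ψ ≫ hU.fromSpec = m := by
    rw [Spec.map_preimage, IsOpenImmersion.lift_fac]
  have hψ₀ : ψ ≫ fstA = 𝟙 _ := Spec.map_injective (by
    rw [← cancel_mono hU.fromSpec, Spec.map_comp, Category.assoc, hψ, Spec.map_id, Category.id_comp]
    exact him)
  have hψρ : ρ ≫ ψ = ρ ≫ inlA := Spec.map_injective (by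
    rw [Spec.map_comp, Spec.map_comp, hρ, reassoc_of% hψ]
    exact (Category.assoc _ _ _).symm.trans ((congrArg (· ≫ eU.hom) (mul_s G v g hvg)).trans
      (by simp [g, fs])))
  have hfst : ∀ a, (ψ.hom a).fst = a := fun a => congrArg (fun f => f.hom a) hψ₀
  let D : A →ₗ[k] A :=
    { toFun := fun a => (ψ.hom a).snd
      map_add' := fun a b => by rw [map_add]; rfl
      map_smul' := fun c a => by
        have hc : ψ.hom (algebraMap k A c) = TrivSqZeroExt.inl (algebraMap k A c) :=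
          congrArg (fun f => f.hom c) hψρ
        rw [Algebra.smul_def, map_mul, hc, Algebra.smul_def, TrivSqZeroExt.snd_mul]
        simp [smul_eq_mul, MulOpposite.smul_eq_mul_unop] }
  refine ⟨D, fun a b => ?_, fun a => ?_⟩
  · show (ψ.hom (a * b)).snd = (ψ.hom a).snd * b + a * (ψ.hom b).snd
    rw [map_mul, TrivSqZeroExt.snd_mul, hfst, hfst, smul_eq_mul, MulOpposite.smul_eq_mul_unop, MulOpposite.unop_op]
    ring
  · let RK : CommRingCat.{u} := CommRingCat.of (DualNumber k)
    let φ : R ⟶ RK := CommRingCat.ofHom (GrpSmooth.dualMap ε.toRingHom)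
    let inlK : CommRingCat.of k ⟶ RK := CommRingCat.ofHom (TrivSqZeroExt.inlHom k k)
    have hφinl : inlA ≫ φ = ε₀ ≫ inlK := by
      refine CommRingCat.hom_ext (RingHom.ext fun b => ?_)
      show GrpSmooth.dualMap ε.toRingHom (TrivSqZeroExt.inl b) = TrivSqZeroExt.inl (ε b)
      ext <;> simp [GrpSmooth.dualMap]
    let j : Spec RK ⟶ Spec R := Spec.map φ
    have hjg : j ≫ g = Spec.map inlK ≫ ek G eU := by
      show Spec.map φ ≫ Spec.map inlA ≫ hU.fromSpec = _
      rw [← Category.assoc, ← Spec.map_comp, hφinl, Spec.map_comp, Category.assoc, hε₀]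
    have hjm : j ≫ m = j ≫ v := by
      rw [comp_mul]
      refine GrpdBasic.mul_one G (j ≫ v) _ ?_ _
      rw [Category.assoc, reassoc_of% hvg, reassoc_of% hjg, hjg]
      simp [ek, reassoc_of% G.e_t]
    have h : ψ ≫ φ = χ ≫ φ := Spec.map_injective (by
      rw [← cancel_mono hU.fromSpec, Spec.map_comp, Category.assoc, hψ, Spec.map_comp, Category.assoc]
      exact hjm)
    have := congrArg (fun f => (f.hom a).snd) h
    have hτε : ∀ c, ε (τ.hom c) = c := fun c => congrArg (fun f => f.hom c) hcomp'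
    show ε (ψ.hom a).snd = l a
    simpa [φ, χ, GrpSmooth.dualMap, ptDual, hτε] using this

include eU in
/-- Cartier: in characteristic zero, the arrows are reduced near the identity. -/
theorem exists_reduced_nhbd [CharZero k] [LocallyOfFiniteType G.s] :
    ∃ V : G.R.Opens, ek G eU (IsLocalRing.closedPoint k) ∈ V ∧ IsReduced (V : Scheme.{u}) := by
  obtain ⟨_, ⟨U, hU, rfl⟩, he, -⟩ := G.R.isBasis_affineOpens.exists_subset_of_mem_open
    (Set.mem_univ (ek G eU (IsLocalRing.closedPoint k))) isOpen_univ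
  obtain ⟨_, ε, hε, hder⟩ := exists_chart G eU U hU he
  have : IsLocallyNoetherian G.R := LocallyOfFiniteType.isLocallyNoetherian (fs G eU)
  have : IsNoetherianRing Γ(G.R, U) := IsLocallyNoetherian.component_noetherian ⟨U, hU⟩
  obtain ⟨F, hF⟩ := (inferInstance : IsNoetherian Γ(G.R, U) Γ(G.R, U)).noetherian
    (nilradical Γ(G.R, U))
  have hnil : ∀ x ∈ F, IsNilpotent x := fun x hx => mem_nilradical.mp (hF ▸ Submodule.subset_span hx)
  choose t ht ht' using fun x : F => GrpSmooth.exists_smul_eq_zero_of_isNilpotent hder (hnil x.1 x.2)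
  let s := ∏ x : F, t x
  have hs : ε s ≠ 0 := by
    simp only [s, map_prod]
    exact Finset.prod_ne_zero_iff.mpr fun x _ => ht x
  have hkill : ∀ x ∈ nilradical Γ(G.R, U), s * x = 0 := by
    intro x hx
    rw [← hF] at hx
    induction hx using Submodule.span_induction with
    | mem y hy =>
      obtain ⟨c, hc⟩ : t ⟨y, hy⟩ ∣ s := Finset.dvd_prod_of_mem t (Finset.mem_univ _)
      rw [hc, mul_comm (t ⟨y, hy⟩) c, _root_.mul_assoc, ht' ⟨y, hy⟩, MulZeroClass.mul_zero]
    | zero => rw [MulZeroClass.mul_zero]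
    | add p q _ _ hp hq => rw [mul_add, hp, hq, add_zero]
    | smul c p _ hp => rw [smul_eq_mul, mul_left_comm, hp, MulZeroClass.mul_zero]
  have : _root_.IsReduced Γ(G.R, G.R.basicOpen s) := by
    have := hU.isLocalization_basicOpen s
    refine ⟨fun z hz => ?_⟩
    obtain ⟨x, ⟨_, n, rfl⟩, rfl⟩ := IsLocalization.exists_mk'_eq (Submonoid.powers s) z
    obtain ⟨N, hN⟩ := hz
    rw [← IsLocalization.mk'_pow, IsLocalization.mk'_eq_zero_iff] at hN
    obtain ⟨⟨_, M, rfl⟩, hM⟩ := hN
    have hnilp : s ^ M * x ∈ nilradical Γ(G.R, U) := by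
      refine mem_nilradical.mpr ⟨N + 1, ?_⟩
      calc (s ^ M * x) ^ (N + 1) = (s ^ M) ^ N * x * (s ^ M * x ^ N) := by ring
        _ = 0 := by rw [show s ^ M * x ^ N = 0 from hM, MulZeroClass.mul_zero]
    rw [IsLocalization.mk'_eq_zero_iff]
    exact ⟨⟨s ^ (M + 1), M + 1, rfl⟩, show s ^ (M + 1) * x = 0 by rw [pow_succ', _root_.mul_assoc]; exact hkill _ hnilp⟩
  refine ⟨G.R.basicOpen s, ?_, isReduced_of_isOpenImmersion (hU.basicOpen s).isoSpec.hom⟩
  rw [← hε]
  show (IsLocalRing.closedPoint k) ∈ (Spec.map (CommRingCat.ofHom ε.toRingHom) ≫ hU.fromSpec) ⁻¹ᵁ G.R.basicOpen s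
  rw [Scheme.Hom.comp_preimage, hU.fromSpec_preimage_basicOpen]
  show s ∉ Ideal.comap ε.toRingHom (IsLocalRing.maximalIdeal k)
  simp [IsLocalRing.maximalIdeal_eq_bot, hs]


include eU in
theorem smooth_both_of_charZero [CharZero k] [LocallyOfFiniteType G.s] : Smooth G.s ∧ Smooth G.t := by
  obtain ⟨V, hV, hr⟩ := exists_reduced_nhbd G eU
  have := smooth_of_reduced_open G eU V ⟨_, hV⟩
  exact ⟨this, smooth_t_of_smooth_s G⟩

include eU in
theorem smooth_both_of_reduced [PerfectField k] [LocallyOfFiniteType G.s] [IsReduced G.R] :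
    Smooth G.s ∧ Smooth G.t := by
  have : IsReduced ((⊤ : G.R.Opens) : Scheme.{u}) := isReduced_of_isOpenImmersion (⊤ : G.R.Opens).ι
  haveI : Subsingleton (Spec (CommRingCat.of k)) := inferInstanceAs (Subsingleton (PrimeSpectrum k))
  have := smooth_of_reduced_open G eU ⊤ ⟨G.e (eU.inv (IsLocalRing.closedPoint k)), trivial⟩
  exact ⟨this, smooth_t_of_smooth_s G⟩

end Groth.Agent.GrpdClosed
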