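import Groth.Agent.GrpdClosed.Basic
import Groth.Agent.BMCoh.Basic
import Groth.Agent.PurelyInsepRed.Basic
import Groth.Agent.EGA41Lib.ReducedTensor
import Mathlib.AlgebraicGeometry.Morphisms.SchemeTheoreticallyDominant
import Mathlib.AlgebraicGeometry.Morphisms.ClosedImmersion

/-!
# Closed subgroupoids over a field: closures and scheme-theoretic images
-/

set_option autoImplicit false
set_option linter.style.haveILetI false
universe u
open CategoryTheory CategoryTheory.Limits AlgebraicGeometry TopologicalSpace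

namespace Groth.Agent.GrpdClosed

open GrpdBasic

section Sub

variable {S : Scheme.{u}} (G : Grpd.GroupoidScheme S) {Z : Scheme.{u}} (ι : Z ⟶ G.R) [Mono ι]
  (c' : pullback (ι ≫ G.s) (ι ≫ G.t) ⟶ Z)
  (hc : c' ≫ ι = pullback.map (ι ≫ G.s) (ι ≫ G.t) G.s G.t ι ι (𝟙 _) (by simp) (by simp) ≫ G.c)
  (e' : G.U ⟶ Z) (he : e' ≫ ι = G.e) (i' : Z ⟶ Z) (hi : i' ≫ ι = ι ≫ G.i)

include hc in
theorem sub_comp {T : Scheme.{u}} (α β : T ⟶ Z) (h : α ≫ ι ≫ G.s = β ≫ ι ≫ G.t) :
    (pullback.lift α β h ≫ c') ≫ ι =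
      mul G (α ≫ ι) (β ≫ ι) (by rw [Category.assoc, Category.assoc, h]) := by
  rw [Category.assoc, hc, mul, ← Category.assoc]
  congr 1
  refine pullback.hom_ext ?_ ?_
  · exact (Category.assoc _ _ _).trans ((congrArg _ (pullback.lift_fst _ _ _)).trans
      ((pullback.lift_fst_assoc _ _ _ _).trans (pullback.lift_fst _ _ _).symm))
  · exact (Category.assoc _ _ _).trans ((congrArg _ (pullback.lift_snd _ _ _)).trans
      ((pullback.lift_snd_assoc _ _ _ _).trans (pullback.lift_snd _ _ _).symm))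

/-- The subgroupoid carried by a monomorphism stable under the operations. -/
noncomputable def sub : Grpd.GroupoidScheme S where
  U := G.U
  R := Z
  pU := G.pU
  pR := ι ≫ G.pR
  s := ι ≫ G.s
  t := ι ≫ G.t
  e := e'
  i := i'
  c := c'
  s_over := by rw [Category.assoc, G.s_over]
  t_over := by rw [Category.assoc, G.t_over]
  comp_s := fun α β h => by
    rw [← Category.assoc _ ι, sub_comp G ι c' hc α β h, mul_s, Category.assoc]
  comp_t := fun α β h => by
    rw [← Category.assoc _ ι, sub_comp G ι c' hc α β h, mul_t, Category.assoc]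
  assoc := fun α β γ h₁ h₂ => by
    refine (cancel_mono ι).1 ?_
    refine (sub_comp G ι c' hc _ _ _).trans ?_
    refine Eq.trans ?_ (sub_comp G ι c' hc _ _ _).symm
    refine (mul_congr G (sub_comp G ι c' hc α β h₁) rfl _).trans ?_
    refine (mul_assoc G (α ≫ ι) (β ≫ ι) (γ ≫ ι) (by rw [Category.assoc, Category.assoc, h₁])
      (by rw [Category.assoc, Category.assoc, h₂])).trans ?_
    exact mul_congr G rfl (sub_comp G ι c' hc β γ h₂).symm _
  e_s := by rw [reassoc_of% he, G.e_s]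
  e_t := by rw [reassoc_of% he, G.e_t]
  comp_e := fun α => by
    rw [← cancel_mono ι, sub_comp G ι c' hc]
    refine mul_one G _ _ ?_ _
    simp only [Category.assoc, he]
  e_comp := fun α => by
    rw [← cancel_mono ι, sub_comp G ι c' hc]
    refine one_mul G _ _ ?_ _
    simp only [Category.assoc, he]
  i_s := by rw [reassoc_of% hi, G.i_s]
  i_t := by rw [reassoc_of% hi, G.i_t]
  comp_i := fun α => by
    rw [← cancel_mono ι, sub_comp G ι c' hc]
    refine (mul_congr G rfl (show (α ≫ i') ≫ ι = (α ≫ ι) ≫ G.i by simp only [Category.assoc, hi]) _).trans ?_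
    rw [GrpdBasic.mul_inv]
    simp only [Category.assoc, he]
  i_comp := fun α => by
    rw [← cancel_mono ι, sub_comp G ι c' hc]
    refine (mul_congr G (show (α ≫ i') ≫ ι = (α ≫ ι) ≫ G.i by simp only [Category.assoc, hi]) rfl _).trans ?_
    rw [inv_mul]
    simp only [Category.assoc, he]

/-- The inclusion of the subgroupoid. -/
noncomputable def subHom : Grpd.GroupoidScheme.Hom (sub G ι c' hc e' he i' hi) G where
  fU := 𝟙 G.U
  fR := ι
  fU_over := Category.id_comp _
  comm_s := (Category.comp_id _).symm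
  comm_t := (Category.comp_id _).symm
  comm_c := fun α β h => sub_comp G ι c' hc α β h

end Sub

section Reduced

/-- A morphism from a reduced scheme with image in a closed set kills its vanishing ideal. -/
theorem vanishingIdeal_le_ker {W X : Scheme.{u}} [IsReduced W] (g : W ⟶ X) (C : Closeds X)
    (h : Set.range g ⊆ C) : Scheme.IdealSheafData.vanishingIdeal C ≤ g.ker := by
  refine Scheme.IdealSheafData.le_ofIdeals_iff.2 fun U a ha => ?_
  refine eq_zero_of_basicOpen_eq_bot _ ?_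
  rw [← Scheme.preimage_basicOpen, eq_bot_iff]
  intro w hw
  have hwU : g w ∈ U.1 := X.basicOpen_le a hw
  rw [Scheme.IdealSheafData.vanishingIdeal_ideal] at ha
  have hp : U.2.fromSpec (U.2.primeIdealOf ⟨g w, hwU⟩) ∈ (C : Set X) := by
    rw [U.2.fromSpec_primeIdealOf ⟨g w, hwU⟩]; exact h ⟨w, rfl⟩
  have h1 := (PrimeSpectrum.mem_vanishingIdeal _ _).1 ha _ hp
  have h2 : U.2.primeIdealOf ⟨g w, hwU⟩ ∈ U.2.fromSpec ⁻¹ᵁ X.basicOpen a := by
    change U.2.fromSpec (U.2.primeIdealOf ⟨g w, hwU⟩) ∈ X.basicOpen a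
    rw [U.2.fromSpec_primeIdealOf ⟨g w, hwU⟩]; exact hw
  rw [U.2.fromSpec_preimage_basicOpen] at h2
  exact (h2 h1).elim

variable {k : Type u} [Field k]

theorem isReduced_tensor [PerfectField k] (A B : Type u) [CommRing A] [CommRing B] [Algebra k A] [Algebra k B]
    [IsReduced A] [IsReduced B] : IsReduced (TensorProduct k A B) :=
  EGA41Lib.isReduced_tensor_of_forall_field (fun M _ _ => by
    haveI := PurelyInsepRed.isReduced_tensor_of_perfectField (k := k) (S := A) M
    exact isReduced_of_injective (Algebra.TensorProduct.comm k A M) (AlgEquiv.injective _)) B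

/-- Products of reduced schemes over a perfect field are reduced. -/
theorem isReduced_pullback [PerfectField k] {X Y U : Scheme.{u}} [IsReduced X] [IsReduced Y] (f : X ⟶ U) (g : Y ⟶ U)
    (eU : U ≅ Spec (CommRingCat.of k)) : IsReduced (pullback f g) := by
  suffices IsReduced (pullback (f ≫ eU.hom) (g ≫ eU.hom)) by
    exact isReduced_of_isOpenImmersion (pullback.map f g (f ≫ eU.hom) (g ≫ eU.hom) (𝟙 _) (𝟙 _) eU.hom (by simp) (by simp))
  let f' := f ≫ eU.hom
  let g' := g ≫ eU.hom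
  change IsReduced (pullback f' g')
  apply +allowSynthFailures @IsReduced.of_openCover (𝒰 := Scheme.Pullback.openCoverOfLeftRight X.affineCover Y.affineCover f' g')
  rintro ⟨i, j⟩
  haveI := isReduced_of_isOpenImmersion (X.affineCover.f i)
  haveI := isReduced_of_isOpenImmersion (Y.affineCover.f j)
  obtain ⟨φ, hφ⟩ := Spec.map_surjective ((X.affineCover.X i).isoSpec.inv ≫ X.affineCover.f i ≫ f')
  obtain ⟨ψ, hψ⟩ := Spec.map_surjective ((Y.affineCover.X j).isoSpec.inv ≫ Y.affineCover.f j ≫ g')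
  algebraize [φ.hom, ψ.hom]
  haveI : IsReduced (TensorProduct k Γ(X.affineCover.X i, ⊤) Γ(Y.affineCover.X j, ⊤)) := isReduced_tensor _ _
  haveI : IsReduced (pullback (Spec.map (CommRingCat.ofHom (algebraMap k Γ(X.affineCover.X i, ⊤))))
      (Spec.map (CommRingCat.ofHom (algebraMap k Γ(Y.affineCover.X j, ⊤))))) :=
    isReduced_of_isOpenImmersion (pullbackSpecIso k Γ(X.affineCover.X i, ⊤) Γ(Y.affineCover.X j, ⊤)).hom
  let M := (pullback.map (X.affineCover.f i ≫ f') (Y.affineCover.f j ≫ g')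
      (Spec.map (CommRingCat.ofHom (algebraMap k Γ(X.affineCover.X i, ⊤))))
      (Spec.map (CommRingCat.ofHom (algebraMap k Γ(Y.affineCover.X j, ⊤))))
      (X.affineCover.X i).isoSpec.hom (Y.affineCover.X j).isoSpec.hom (𝟙 _)
      (by rw [Category.comp_id, show CommRingCat.ofHom (algebraMap k Γ(X.affineCover.X i, ⊤)) = φ from rfl, hφ, Iso.hom_inv_id_assoc])
      (by rw [Category.comp_id, show CommRingCat.ofHom (algebraMap k Γ(Y.affineCover.X j, ⊤)) = ψ from rfl, hψ, Iso.hom_inv_id_assoc]))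
  haveI : IsIso M := pullback.map_isIso _ _ _ _ _ _ _ _ _
  exact @isReduced_of_isOpenImmersion _ _ M (IsOpenImmersion.of_isIso M) ‹_›

theorem universallyOpen_to_field {U : Scheme.{u}} (eU : U ≅ Spec (CommRingCat.of k)) {X : Scheme.{u}} (f : X ⟶ U) :
    UniversallyOpen f := by
  have e : f = (f ≫ eU.hom) ≫ eU.inv := by simp
  rw [e]; infer_instance

theorem subsingleton_of_iso {U : Scheme.{u}} (eU : U ≅ Spec (CommRingCat.of k)) : Subsingleton U :=
  Function.Injective.subsingleton (f := fun x => (eU.hom x : PrimeSpectrum k))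
    (fun x y h => eU.hom.homeomorph.injective h)

variable {S : Scheme.{u}} {G₁ G : Grpd.GroupoidScheme S} (a : Grpd.GroupoidScheme.Hom G₁ G) [IsIso a.fU]

/-- The reduced closure of the image is a subgroupoid over a perfect field. -/
theorem exists_sub_closure [PerfectField k] (eU : G.U ≅ Spec (CommRingCat.of k)) :
    ∃ (Z : Scheme.{u}) (ι : Z ⟶ G.R) (_ : IsClosedImmersion ι) (c' : pullback (ι ≫ G.s) (ι ≫ G.t) ⟶ Z)
      (_ : c' ≫ ι = pullback.map (ι ≫ G.s) (ι ≫ G.t) G.s G.t ι ι (𝟙 _) (by simp) (by simp) ≫ G.c)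
      (e' : G.U ⟶ Z) (_ : e' ≫ ι = G.e) (i' : Z ⟶ Z) (_ : i' ≫ ι = ι ≫ G.i),
      IsReduced Z ∧ Set.range ι = closure (Set.range a.fR) := by
  let C : Closeds G.R := ⟨closure (Set.range a.fR), isClosed_closure⟩
  let I := Scheme.IdealSheafData.vanishingIdeal C
  haveI hZ : IsReduced I.subscheme := BMCoh.isReduced_vanishingIdeal_subscheme C
  let ι := I.subschemeι
  have hr : Set.range ι = closure (Set.range a.fR) := by
    rw [Scheme.IdealSheafData.range_subschemeι, Scheme.IdealSheafData.coe_support_vanishingIdeal]; rfl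
  have factor : ∀ {W : Scheme.{u}} [IsReduced W] (g : W ⟶ G.R), Set.range g ⊆ closure (Set.range a.fR) →
      ∃ g' : W ⟶ I.subscheme, g' ≫ ι = g := fun {W} _ g hg =>
    ⟨IsClosedImmersion.lift ι g (by rw [Scheme.IdealSheafData.ker_subschemeι]; exact vanishingIdeal_le_ker g C hg),
      IsClosedImmersion.lift_fac _ _ _⟩
  haveI := isReduced_pullback (ι ≫ G.s) (ι ≫ G.t) eU
  haveI : IsReduced G.U := isReduced_of_isOpenImmersion eU.hom
  obtain ⟨c', hc⟩ := factor (pullback.map (ι ≫ G.s) (ι ≫ G.t) G.s G.t ι ι (𝟙 _) (by simp) (by simp) ≫ G.c) (by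
    rintro _ ⟨z, rfl⟩
    rw [Scheme.Hom.comp_apply]
    refine c_mem_closure a (universallyOpen_to_field eU) _ ?_ ?_
    · rw [← Scheme.Hom.comp_apply, pullback.lift_fst, Scheme.Hom.comp_apply, ← hr]; exact ⟨_, rfl⟩
    · rw [← Scheme.Hom.comp_apply, pullback.lift_snd, Scheme.Hom.comp_apply, ← hr]; exact ⟨_, rfl⟩)
  obtain ⟨e', he⟩ := factor G.e (by
    rintro _ ⟨x, rfl⟩
    refine subset_closure ⟨G₁.e (inv a.fU x), ?_⟩
    rw [← Scheme.Hom.comp_apply, e_fR, Scheme.Hom.comp_apply, ← Scheme.Hom.comp_apply (inv a.fU), IsIso.inv_hom_id]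
    rfl)
  obtain ⟨i', hi⟩ := factor (ι ≫ G.i) (by
    rintro _ ⟨z, rfl⟩
    rw [Scheme.Hom.comp_apply]
    exact i_mem_closure a _ (hr ▸ ⟨z, rfl⟩))
  exact ⟨_, ι, inferInstance, c', hc, e', he, i', hi, hZ, hr⟩

end Reduced

end Groth.Agent.GrpdClosed
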